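import Groth.Agent.LefAlg.Transpose
import Groth.Agent.LefSections.Basic

/-!
# Algebraising morphisms of formal finite locally free modules
-/

set_option autoImplicit false

universe u

open CategoryTheory CategoryTheory.Limits AlgebraicGeometry
open Groth.RefRank (secToLin secToLin_res secToLin_add secToLin_smul secToLin_surjective germ_secToLin)
open Groth.QCohMod (germ)
open Groth.CohTwo.LocFreeDual (dual)

namespace Groth.LefAlg

local notation "ρ" => Groth.QCohMod.res

theorem linearMap_mem_smul_top {R M N : Type u} [CommRing R] [AddCommGroup M] [Module R M]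
    [Module.Finite R M] [Module.Projective R M] [AddCommGroup N] [Module R N] (a : Ideal R)
    {g : M →ₗ[R] N} (h : ∀ x, g x ∈ a • (⊤ : Submodule R N)) :
    g ∈ a • (⊤ : Submodule R (M →ₗ[R] N)) := by
  classical
  obtain ⟨k, p, hp⟩ := Module.Finite.exists_fin' R M
  obtain ⟨σ, hσ⟩ := Module.projective_lifting_property p LinearMap.id hp
  have e : g = ∑ i : Fin k, ((LinearMap.proj i).comp σ).smulRight (g (p (Pi.single i 1))) := by
    ext x
    have e1 : x = p (σ x) := (LinearMap.congr_fun hσ x).symm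
    conv_lhs => rw [e1, pi_eq_sum_univ (σ x), map_sum, map_sum]
    rw [LinearMap.sum_apply]
    refine Finset.sum_congr rfl fun i _ => ?_
    rw [map_smul, map_smul, LinearMap.smulRight_apply]
    congr 3
    funext j
    simp [Pi.single_apply, eq_comm]
  rw [e]
  refine Submodule.sum_mem _ fun i _ => ?_
  refine Submodule.smul_induction_on
    (p := fun n => ((LinearMap.proj i).comp σ).smulRight n ∈ a • (⊤ : Submodule R (M →ₗ[R] N)))
    (h (p (Pi.single i 1))) (fun r hr n _ => ?_) fun x y hx hy => ?_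
  · have e2 : ((LinearMap.proj i).comp σ).smulRight (r • n) =
        r • ((LinearMap.proj i).comp σ).smulRight n := LinearMap.ext fun z => smul_comm _ _ _
    rw [e2]
    exact Submodule.smul_mem_smul hr trivial
  · have e2 : ((LinearMap.proj i).comp σ).smulRight (x + y) =
        ((LinearMap.proj i).comp σ).smulRight x + ((LinearMap.proj i).comp σ).smulRight y :=
      LinearMap.ext fun z => smul_add _ _ _
    rw [e2]
    exact Submodule.add_mem _ hx hy

variable {X : Scheme.{u}} {E E₁ : X.Modules}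

theorem app_comp_eq {M M' N N' : X.Modules} (α : M ⟶ N) (β : M' ⟶ N) (γ : N ⟶ N') (V : X.Opens)
    (x : Γ(M, V)) (y : Γ(M', V)) (h : α.app V x = β.app V y) :
    (α ≫ γ).app V x = (β ≫ γ).app V y :=
  congrArg (γ.app V) h

theorem secToLin_injective [E₁.IsQuasicoherent] (V : X.affineOpens) :
    Function.Injective (secToLin : Γ(RefHull.homSh E₁ E, V.1) → (Γ(E₁, V.1) →ₗ[Γ(X, V.1)] Γ(E, V.1))) := by
  intro h h' hh
  refine RefRank.hom_ext_sec fun x => RefRank.stalkHom_ext V.2 x.2 fun m => ?_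
  rw [← germ_secToLin h m x.1 x.2, ← germ_secToLin h' m x.1 x.2, hh]

theorem mem_smul_top_of_secToLin [E₁.IsQuasicoherent] (hE₁ : FlatMod.IsFinLocFree E₁)
    (V : X.affineOpens) (a : Ideal Γ(X, V.1)) {h : Γ(RefHull.homSh E₁ E, V.1)}
    (hh : ∀ m, secToLin h m ∈ a • (⊤ : Submodule Γ(X, V.1) Γ(E, V.1))) :
    h ∈ a • (⊤ : Submodule Γ(X, V.1) Γ(RefHull.homSh E₁ E, V.1)) := by
  obtain ⟨_, _⟩ := LocFree.finite_projective_sections hE₁ V.2
  let L : Γ(RefHull.homSh E₁ E, V.1) →ₗ[Γ(X, V.1)] (Γ(E₁, V.1) →ₗ[Γ(X, V.1)] Γ(E, V.1)) :=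
    { toFun := secToLin, map_add' := secToLin_add, map_smul' := secToLin_smul }
  have hmem := linearMap_mem_smul_top a (g := L h) hh
  have hsurj : (⊤ : Submodule Γ(X, V.1) _).map L = ⊤ :=
    (Submodule.map_top L).trans (LinearMap.range_eq_top.2 (secToLin_surjective V.2))
  rw [← hsurj, ← Submodule.map_smul''] at hmem
  obtain ⟨h', hh', he⟩ := hmem
  exact secToLin_injective V he ▸ hh'

/-- Compatible maps to all thickenings of a finite locally free module come from a morphism. -/
theorem exists_algebraic_hom (I : X.IdealSheafData) (hE₁ : FlatMod.IsFinLocFree E₁)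
    (hE : FlatMod.IsFinLocFree E)
    (hLef : Lef.HomToFormalBijective I (dual (RefHull.homSh E₁ E)))
    (ψ : ∀ b, E₁ ⟶ pushLvl (FSch.complMod I E) b)
    (hψ : ∀ b, ψ (b + 1) ≫ pushTr (FSch.complMod I E) b = ψ b) :
    ∃ φ : E₁ ⟶ E, ∀ b, φ ≫ unitLvl I E b = ψ b := by
  have := KTheory.LocFree.isQCoh hE₁
  have := KTheory.LocFree.isQCoh hE
  have hH : FlatMod.IsFinLocFree (RefHull.homSh E₁ E) := LocFree.isFinLocFree_homSh hE₁ hE
  have lift : ∀ b (V : X.affineOpens), ∃ h : Γ(RefHull.homSh E₁ E, V.1),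
      ∀ m, (unitLvl I E b).app V.1 (secToLin h m) = (ψ b).app V.1 m := by
    intro b V
    obtain ⟨_, _⟩ := LocFree.finite_projective_sections hE₁ V.2
    let q : Γ(E, V.1) →ₗ[Γ(X, V.1)] Γ(pushLvl (FSch.complMod I E) b, V.1) :=
      ((unitLvl I E b).val.app (Opposite.op V.1)).hom
    let g : Γ(E₁, V.1) →ₗ[Γ(X, V.1)] Γ(pushLvl (FSch.complMod I E) b, V.1) :=
      ((ψ b).val.app (Opposite.op V.1)).hom
    obtain ⟨lm, hlm⟩ := Module.projective_lifting_property q g (unitLvl_facts I E b V).1
    obtain ⟨h, hh⟩ := secToLin_surjective (F := E₁) (G := E) V.2 lm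
    exact ⟨h, fun m => by rw [hh]; exact LinearMap.congr_fun hlm m⟩
  choose e he using lift
  have diff : ∀ b (V : X.affineOpens) (h h' : Γ(RefHull.homSh E₁ E, V.1)),
      (∀ m, (unitLvl I E b).app V.1 (secToLin h m) = (unitLvl I E b).app V.1 (secToLin h' m)) →
      LefSections.InPow I (RefHull.homSh E₁ E) b V (h - h') := by
    intro b V h h' hd
    refine mem_smul_top_of_secToLin hE₁ V _ fun m => ?_
    refine ((unitLvl_facts I E b V).2 _).1 ?_
    have e1 : secToLin (h - h') m = secToLin h m - secToLin h' m := by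
      rw [eq_sub_iff_add_eq, ← LinearMap.add_apply, ← secToLin_add, sub_add_cancel]
    rw [e1, map_sub, hd, sub_self]
  have hle : ∀ b (V : X.affineOpens) (W : X.Opens) (hW : W ≤ V.1) (m : Γ(E₁, W)),
      (unitLvl I E b).app W (secToLin (ρ _ hW (e b V)) m) = (ψ b).app W m := by
    intro b V W hW m
    refine RefRank.mod_section_ext _ fun x hx => ?_
    have hst : (RefHull.stalkMapₗ (unitLvl I E b) x).comp ((e b V).1 ⟨x, hW hx⟩) =
        RefHull.stalkMapₗ (ψ b) x := by
      refine RefRank.stalkHom_ext V.2 (hW hx) fun n => ?_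
      rw [LinearMap.comp_apply, RefHull.stalkMapₗ_germ, ← germ_secToLin (e b V) n x (hW hx),
        RefHull.stalkMapₗ_germ, he]
    refine Eq.trans ?_ (RefHull.stalkMapₗ_germ (ψ b) x hx m)
    rw [← hst, ← RefHull.stalkMapₗ_germ (unitLvl I E b) x hx, LinearMap.comp_apply, germ_secToLin]
    rfl
  obtain ⟨s, hs⟩ := LefSections.exists_section hH hLef e
    (fun b V V' hV => diff b V' _ _ fun m => (hle b V V'.1 hV m).trans (he b V' m).symm)
    (fun b V => diff b V _ _ fun m => by
      rw [he, ← hψ b, ← unitLvl_tr I E b]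
      exact app_comp_eq _ _ _ V.1 _ _ (he (b + 1) V m))
  obtain ⟨φ, hφ⟩ := CohBase.HomPull.exists_hom_of_global s
  have hsec : ∀ (V : X.Opens) (m : Γ(E₁, V)), φ.app V m = secToLin (ρ _ le_top s) m := fun V m =>
    (hφ V m).trans (RefRank.mod_section_ext E fun x hx => by
      rw [RefRank.germ_applySec, germ_secToLin]
      rfl)
  have hmem : ∀ b (V : X.affineOpens) (h : Γ(RefHull.homSh E₁ E, V.1)) (m : Γ(E₁, V.1)),
      LefSections.InPow I (RefHull.homSh E₁ E) b V h →
      secToLin h m ∈ (I.ideal V ^ (b + 1)) • (⊤ : Submodule Γ(X, V.1) Γ(E, V.1)) := by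
    intro b V h m hh
    let L : Γ(RefHull.homSh E₁ E, V.1) →ₗ[Γ(X, V.1)] Γ(E, V.1) :=
      { toFun := fun h => secToLin h m
        map_add' := fun h h' => LinearMap.congr_fun (secToLin_add h h') m
        map_smul' := fun r h => LinearMap.congr_fun (secToLin_smul r h) m }
    have := Submodule.mem_map_of_mem (f := L) hh
    rw [Submodule.map_smul''] at this
    exact Submodule.smul_mono le_rfl le_top this
  refine ⟨φ, fun b => LefSections.hom_ext_affine fun V m => ?_⟩
  refine Eq.trans ?_ (he b V m)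
  change (unitLvl I E b).app V.1 (φ.app V.1 m) = _
  have h2 := ((unitLvl_facts I E b V).2 _).2 (hmem b V _ m (hs b V))
  have e1 : secToLin (ρ _ le_top s - e b V) m =
      secToLin (ρ _ le_top s) m - secToLin (e b V) m := by
    rw [eq_sub_iff_add_eq, ← LinearMap.add_apply, ← secToLin_add, sub_add_cancel]
  rw [e1, map_sub, sub_eq_zero] at h2
  rw [hsec]
  exact h2

end Groth.LefAlg
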