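import Groth.Agent.LefAlg.Mul
import Groth.Agent.RelSpecH.Gamma
import Mathlib.AlgebraicGeometry.Morphisms.Flat
import Mathlib.RingTheory.Flat.Basic

/-!
# The finite flat scheme of a formal algebra structure
-/

universe u

set_option autoImplicit false
set_option backward.isDefEq.respectTransparency false
set_option linter.style.haveILetI false

open CategoryTheory AlgebraicGeometry Opposite TopologicalSpace
open Groth.LefSections (InPow pushO)

namespace Groth.LefAlg

local notation "ρ" => Groth.QCohMod.res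

variable {U : Scheme.{u}} {J : U.IdealSheafData} {E : U.Modules} {B : ℕ → Scheme.{u}}
  {q : ∀ n, B n ⟶ U} {g : ∀ n, E ⟶ pushO (q n)} (hF : Formal J E q g)

noncomputable section

/-- The multiplication. -/
def Formal.mu : Γ(bilSh E, ⊤) := hF.exists_mul.choose

theorem Formal.mu_spec : ∀ (n : ℕ) (V : U.affineOpens), IsMul g n (mulSec hF.mu V.1) :=
  hF.exists_mul.choose_spec

/-- The unit. -/
def Formal.one : Γ(E, ⊤) := hF.exists_one.choose

theorem Formal.one_spec (n : ℕ) (V : U.affineOpens) : toB (g n) V.1 (ρ E le_top hF.one) = 1 :=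
  hF.exists_one.choose_spec n V

/-- The ring structure on the sections. -/
@[instance_reducible]
def Formal.ringOn (W : U.Opens) : CommRing Γ(E, W) :=
  letI : Mul Γ(E, W) := ⟨fun x y => mulSec hF.mu W x y⟩
  letI : One Γ(E, W) := ⟨ρ E le_top hF.one⟩
  { (inferInstance : AddCommGroup Γ(E, W)) with
    left_distrib := fun x y z => map_add (mulSec hF.mu W x) y z
    right_distrib := fun x y z => LinearMap.map_add₂ (mulSec hF.mu W) x y z
    zero_mul := fun x => LinearMap.map_zero₂ (mulSec hF.mu W) x
    mul_zero := fun x => map_zero (mulSec hF.mu W x)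
    mul_assoc := fun x y z => mulSec_assoc hF hF.mu_spec W x y z
    one_mul := fun x => mulSec_one hF hF.mu_spec hF.one_spec W x
    mul_one := fun x => (mulSec_comm hF hF.mu_spec W x _).trans (mulSec_one hF hF.mu_spec hF.one_spec W x)
    mul_comm := mulSec_comm hF hF.mu_spec W }

/-- The sections as a ring. -/
def Formal.ringObj (W : U.Opens) : CommRingCat.{u} :=
  letI := hF.ringOn W
  CommRingCat.of Γ(E, W)

/-- Restriction as a ring map. -/
def Formal.ringRes {W W' : U.Opens} (h : W' ≤ W) : hF.ringObj W ⟶ hF.ringObj W' :=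
  letI := hF.ringOn W
  letI := hF.ringOn W'
  CommRingCat.ofHom
    { toFun := ρ E h
      map_one' := QCohMod.res_res E le_top h hF.one
      map_mul' := fun x y => (mulSec_res hF.mu h x y).symm
      map_zero' := map_zero _
      map_add' := map_add _ }

/-- The structure map. -/
def Formal.strApp (W : U.Opens) : Γ(U, W) ⟶ hF.ringObj W :=
  letI := hF.ringOn W
  CommRingCat.ofHom
    { toFun := fun r => r • ρ E le_top hF.one
      map_one' := one_smul _ _
      map_mul' := fun r s => by
        show (r * s) • ρ E le_top hF.one =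
          mulSec hF.mu W (r • ρ E le_top hF.one) (s • ρ E le_top hF.one)
        rw [LinearMap.map_smul₂, map_smul, mulSec_one hF hF.mu_spec hF.one_spec, mul_smul]
      map_zero' := zero_smul _ _
      map_add' := fun r s => add_smul r s _ }

theorem Formal.strApp_mul (W : U.Opens) (r : Γ(U, W)) (x : Γ(E, W)) :
    mulSec hF.mu W (r • ρ E le_top hF.one) x = r • x := by
  rw [LinearMap.map_smul₂, mulSec_one hF hF.mu_spec hF.one_spec]

/-- The presheaf of rings. -/
def Formal.ringPresheaf : TopCat.Presheaf CommRingCat.{u} U.carrier where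
  obj W := hF.ringObj W.unop
  map i := hF.ringRes i.unop.le
  map_id W := by
    refine CommRingCat.hom_ext (RingHom.ext fun x => ?_)
    exact congr($(E.presheaf.map_id W) x)
  map_comp {W W' W''} i j := by
    refine CommRingCat.hom_ext (RingHom.ext fun x => ?_)
    exact congr($(E.presheaf.map_comp i j) x)

theorem Formal.isSheaf_ringPresheaf : hF.ringPresheaf.IsSheaf :=
  (TopCat.Presheaf.isSheaf_iff_isSheaf_comp (forget CommRingCat) _).mpr
    (TopCat.Presheaf.isSheaf_of_iso
      (NatIso.ofComponents (fun _ => Iso.refl _) (fun _ => rfl) :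
        E.presheaf ⋙ forget AddCommGrpCat ≅ hF.ringPresheaf ⋙ forget CommRingCat)
      ((TopCat.Presheaf.isSheaf_iff_isSheaf_comp (forget AddCommGrpCat) _).mp E.isSheaf))

theorem Formal.strApp_natural {W W' : U.Opens} (h : W' ≤ W) (r : Γ(U, W)) :
    hF.ringRes h (hF.strApp W r) = hF.strApp W' (QCohMod.resFun U h r) := by
  show ρ E h (r • ρ E le_top hF.one) = QCohMod.resFun U h r • ρ E le_top hF.one
  rw [QCohMod.res_smul, QCohMod.res_res]

theorem Formal.isQC_aux {W : U.Opens} (hW : IsAffineOpen W) (r : Γ(U, W)) :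
    letI := (hF.ringRes (U.basicOpen_le r)).hom.toAlgebra
    IsLocalization.Away (hF.strApp W r) (hF.ringObj (U.basicOpen r)) := by
  have := KTheory.LocFree.isQCoh hF.locFree
  letI := hF.ringOn W
  letI := hF.ringOn (U.basicOpen r)
  letI := (hF.ringRes (U.basicOpen_le r)).hom.toAlgebra
  let e : hF.ringObj W →+* hF.ringObj (U.basicOpen r) := (hF.ringRes (U.basicOpen_le r)).hom
  let r' : hF.ringObj W := hF.strApp W r
  let r₀ : Γ(U, U.basicOpen r) := QCohMod.resFun U (U.basicOpen_le r) r
  have hr : e r' = hF.strApp (U.basicOpen r) r₀ := hF.strApp_natural _ r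
  have hpow : ∀ n : ℕ, e (r' ^ n) = hF.strApp (U.basicOpen r) (r₀ ^ n) := fun n => by
    rw [map_pow, hr, map_pow]
  refine (isLocalization_iff _ _).2 ⟨?_, fun s ↦ ?_, fun {a b} hab ↦ ?_⟩
  · rintro ⟨_, n, rfl⟩
    change IsUnit (e (r' ^ n))
    rw [hpow]
    exact IsUnit.map (hF.strApp (U.basicOpen r)).hom
      (IsUnit.pow n (RingedSpace.isUnit_res_basicOpen U.toRingedSpace r))
  · obtain ⟨n, t, ht⟩ := QCohMod.exists_pow_smul_eq_res E hW r (show Γ(E, U.basicOpen r) from s)
    refine ⟨⟨t, ⟨r' ^ n, n, rfl⟩⟩, ?_⟩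
    change s * e (r' ^ n) = e t
    rw [hpow, mul_comm]
    exact (hF.strApp_mul (U.basicOpen r) (r₀ ^ n) s).trans ht.symm
  · have h0 : ρ E (U.basicOpen_le r) ((show Γ(E, W) from a) - (show Γ(E, W) from b)) = 0 := by
      rw [map_sub]
      exact sub_eq_zero.2 hab
    obtain ⟨n, hn⟩ := QCohMod.exists_pow_smul_eq_zero E hW r _ h0
    refine ⟨⟨r' ^ n, n, rfl⟩, sub_eq_zero.1 ?_⟩
    change r' ^ n * a - r' ^ n * b = 0
    rw [← mul_sub, show r' ^ n = hF.strApp W (r ^ n) from (map_pow (hF.strApp W).hom r n).symm]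
    exact (hF.strApp_mul W (r ^ n) _).trans hn

/-- The algebra. -/
def Formal.alg : RelSpec.QCAlg U where
  presheaf := hF.ringPresheaf
  isSheaf := hF.isSheaf_ringPresheaf
  str :=
    { app := fun W => hF.strApp W.unop
      naturality := fun W W' i => CommRingCat.hom_ext (RingHom.ext fun (r : Γ(U, W.unop)) =>
        (hF.strApp_natural i.unop.le r).symm) }
  isQC := fun W hW r => hF.isQC_aux hW r

/-- The scheme over `U`. -/
abbrev Formal.scheme : Scheme.{u} := hF.alg.spec

/-- Its structure map. -/
abbrev Formal.proj : hF.scheme ⟶ U := hF.alg.π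

/-- Its functions over an open. -/
def Formal.gamma (W : U.Opens) : Γ(hF.scheme, hF.proj ⁻¹ᵁ W) →+* hF.ringObj W :=
  (hF.alg.gammaMap.app (op W)).hom

theorem Formal.gamma_bijective (W : U.Opens) : Function.Bijective (hF.gamma W) := by
  have := Groth.RelSpecH.isIso_gammaMap hF.alg
  exact ConcreteCategory.bijective_of_isIso (hF.alg.gammaMap.app (op W))

theorem Formal.gamma_res {W W' : U.Opens} (h : W' ≤ W) (a : Γ(hF.scheme, hF.proj ⁻¹ᵁ W)) :
    hF.gamma W' (hF.scheme.presheaf.map (homOfLE (hF.proj.preimage_mono h)).op a) =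
      ρ E h (hF.gamma W a : Γ(E, W)) :=
  congr($(hF.alg.gammaMap.naturality (homOfLE h).op) a)

theorem Formal.gamma_app (W : U.Opens) (r : Γ(U, W)) :
    hF.gamma W (hF.proj.app W r) = hF.strApp W r :=
  congr($(NatTrans.congr_app hF.alg.π_c_gammaMap (op W)) r)

theorem Formal.strApp_props (V : U.affineOpens) :
    (hF.strApp V.1).hom.Finite ∧ (hF.strApp V.1).hom.Flat ∧ (hF.strApp V.1).hom.FinitePresentation := by
  obtain ⟨h1, h2⟩ := LocFree.finite_projective_sections hF.locFree V.2
  letI := hF.ringOn V.1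
  letI alg := (hF.strApp V.1).hom.toAlgebra
  let e : Γ(E, V.1) ≃ₗ[Γ(U, V.1)] hF.ringObj V.1 :=
    { toFun := fun x => x, invFun := fun x => x, left_inv := fun _ => rfl, right_inv := fun _ => rfl
      map_add' := fun _ _ => rfl
      map_smul' := fun r x => (hF.strApp_mul V.1 r x).symm }
  have hfin : Module.Finite Γ(U, V.1) (hF.ringObj V.1) := Module.Finite.equiv e
  have hproj : Module.Projective Γ(U, V.1) (hF.ringObj V.1) := Module.Projective.of_equiv e
  have hfp : Module.FinitePresentation Γ(U, V.1) (hF.ringObj V.1) :=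
    Module.finitePresentation_of_projective _ _
  exact ⟨hfin, (inferInstance : Module.Flat Γ(U, V.1) (hF.ringObj V.1)),
    (inferInstance : Algebra.FinitePresentation Γ(U, V.1) (hF.ringObj V.1))⟩

theorem Formal.app_props (V : U.affineOpens) :
    (hF.proj.app V.1).hom.Finite ∧ (hF.proj.app V.1).hom.Flat ∧ (hF.proj.app V.1).hom.FinitePresentation := by
  obtain ⟨h1, h2, h3⟩ := hF.strApp_props V
  let e := RingEquiv.ofBijective (hF.gamma V.1) (hF.gamma_bijective V.1)
  have heq : (hF.proj.app V.1).hom = e.symm.toRingHom.comp (hF.strApp V.1).hom := RingHom.ext fun r =>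
    e.injective ((hF.gamma_app V.1 r).trans (e.apply_symm_apply _).symm)
  rw [heq]
  exact ⟨(RingHom.Finite.of_surjective _ e.symm.surjective).comp h1,
    h2.comp (RingHom.Flat.of_bijective e.symm.bijective),
    (RingHom.FinitePresentation.of_bijective e.symm.bijective).comp h3⟩

instance Formal.isFinite_proj : IsFinite hF.proj :=
  ⟨fun W hW => (hF.app_props ⟨W, hW⟩).1⟩

instance Formal.flat_proj : Flat hF.proj := by
  refine (HasRingHomProperty.iff_exists_appLE (P := @Flat)
    (RingHom.Flat.stableUnderComposition.stableUnderCompositionWithLocalizationAway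
      RingHom.Flat.holdsForLocalizationAway).left).mpr fun x => ?_
  obtain ⟨V, hV, -⟩ := LefSections.exists_affine_le (⊤ : U.Opens) (x := hF.proj x) trivial
  exact ⟨V, ⟨_, V.2.preimage hF.proj⟩, hV, le_rfl, by
    rw [← Scheme.Hom.app_eq_appLE]; exact (hF.app_props V).2.1⟩

instance Formal.lfp_proj : LocallyOfFinitePresentation hF.proj := by
  refine (HasRingHomProperty.iff_exists_appLE (P := @LocallyOfFinitePresentation)
    (RingHom.finitePresentation_stableUnderComposition.stableUnderCompositionWithLocalizationAway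
      RingHom.finitePresentation_holdsForLocalizationAway).left).mpr fun x => ?_
  obtain ⟨V, hV, -⟩ := LefSections.exists_affine_le (⊤ : U.Opens) (x := hF.proj x) trivial
  exact ⟨V, ⟨_, V.2.preimage hF.proj⟩, hV, le_rfl, by
    rw [← Scheme.Hom.app_eq_appLE]; exact (hF.app_props V).2.2⟩

end

end Groth.LefAlg
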