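import Groth.Agent.AdicLinTop.ThickeningFree

/-!
# Local freeness near the subscheme from local freeness of the thickenings
-/

set_option autoImplicit false
set_option linter.style.haveILetI false

universe u

open CategoryTheory Limits AlgebraicGeometry Opposite TopologicalSpace TensorProduct
open Groth.AdicLinTop.ThickeningFree (nonempty_basis_of_quotients)

namespace Groth.LefAlg

/-- Lifts of a basis of one quotient bound the rank of every quotient. -/
theorem rank_le {O : Type u} [CommRing O] [IsLocalRing O] {G : Type u} [AddCommGroup G] [Module O G]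
    [Module.Finite O G] {B B' : Type u} [CommRing B] [IsLocalRing B] [Algebra O B] [CommRing B']
    [Nontrivial B'] [Algebra O B'] (hs : Function.Surjective (algebraMap O B)) {r r' : ℕ}
    (b : Module.Basis (Fin r) B (B ⊗[O] G))
    (hs' : Function.Surjective (algebraMap O B'))
    (b' : Module.Basis (Fin r') B' (B' ⊗[O] G)) : r' ≤ r := by
  have hloc : IsLocalHom (algebraMap O B) := .of_surjective _ hs
  choose g hg using fun j => TensorProduct.mk_surjective O G B hs (b j)
  have hspan : Submodule.span O (Set.range g) = ⊤ := by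
    refine Submodule.Quotient.subsingleton_iff.1 ?_
    refine Groth.QCohMod.subsingleton_of_tensor_localHom (A := O) (B := B)
      (M := G ⧸ Submodule.span O (Set.range g)) ⟨fun p q => ?_⟩
    suffices H : ∀ p : B ⊗[O] (G ⧸ Submodule.span O (Set.range g)), p = 0 by rw [H p, H q]
    intro p
    obtain ⟨q, rfl⟩ := TensorProduct.mk_surjective O _ B hs p
    obtain ⟨m, rfl⟩ := Submodule.Quotient.mk_surjective _ q
    let L := (Submodule.span O (Set.range g)).mkQ.baseChange B
    show L ((1 : B) ⊗ₜ m) = 0
    rw [← b.sum_repr ((1 : B) ⊗ₜ m), map_sum]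
    refine Finset.sum_eq_zero fun j _ => ?_
    rw [map_smul, ← hg j, TensorProduct.mk_apply, LinearMap.baseChange_tmul, Submodule.mkQ_apply,
      (Submodule.Quotient.mk_eq_zero (Submodule.span O (Set.range g))).2
        (Submodule.subset_span (Set.mem_range_self j)), tmul_zero, smul_zero]
  let f : (Fin r → B') →ₗ[B'] B' ⊗[O] G := Fintype.linearCombination B' fun j => (1 : B') ⊗ₜ g j
  have hf : Function.Surjective f := by
    intro t
    obtain ⟨m, rfl⟩ := TensorProduct.mk_surjective O G B' hs' t
    have hm : m ∈ Submodule.span O (Set.range g) := hspan ▸ trivial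
    obtain ⟨d, rfl⟩ := (Submodule.mem_span_range_iff_exists_fun O).1 hm
    refine ⟨fun j => algebraMap O B' (d j), ?_⟩
    simp [f, Fintype.linearCombination_apply, TensorProduct.tmul_sum, TensorProduct.tmul_smul]
  have := LinearMap.finrank_le_finrank_of_surjective hf
  rwa [Module.finrank_fin_fun, Module.finrank_eq_card_basis b', Fintype.card_fin] at this

variable {X : Scheme.{u}}

/-- Stalks at points of the support of a module locally free on every thickening. -/
theorem free_stalk_of_levels [IsLocallyNoetherian X] (F : X.Modules) (hF : Coh.IsCoh F)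
    (J : X.IdealSheafData)
    (h : ∀ n : ℕ, FlatMod.IsFinLocFree ((Scheme.Modules.pullback (J ^ (n + 1)).subschemeι).obj F))
    (x : X) (hx : x ∈ J.support) :
    Module.Free (X.presheaf.stalk x) (F.presheaf.stalk x) := by
  have : F.IsQuasicoherent := hF.1
  have hfin := Groth.QCohMod.finite_stalk F hF.2 x
  let i := fun n => (J ^ (n + 1)).subschemeι
  have hz : ∀ n, ∃ z, i n z = x := fun n => by
    show x ∈ Set.range (J ^ (n + 1)).subschemeι
    rw [Scheme.IdealSheafData.range_subschemeι, Scheme.IdealSheafData.support_pow_succ]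
    exact hx
  choose z hz using hz
  let φ : ∀ n, X.presheaf.stalk x →+* (J ^ (n + 1)).subscheme.presheaf.stalk (z n) := fun n =>
    ((X.presheaf.stalkCongr (.of_eq (hz n).symm)).hom ≫ (i n).stalkMap (z n)).hom
  letI : ∀ n, Algebra (X.presheaf.stalk x) ((J ^ (n + 1)).subscheme.presheaf.stalk (z n)) :=
    fun n => (φ n).toAlgebra
  have key : ∀ (n : ℕ) (y : X) (hy : i n (z n) = y) (a : y ∈ J.support),
      letI := (((X.presheaf.stalkCongr (.of_eq hy.symm)).hom ≫ (i n).stalkMap (z n)).hom).toAlgebra
      Function.Surjective (algebraMap (X.presheaf.stalk y)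
          ((J ^ (n + 1)).subscheme.presheaf.stalk (z n))) ∧
      RingHom.ker (algebraMap (X.presheaf.stalk y)
          ((J ^ (n + 1)).subscheme.presheaf.stalk (z n))) ≤
        IsLocalRing.maximalIdeal (X.presheaf.stalk y) ^ (n + 1) ∧
      ∃ r, Nonempty (Module.Basis (Fin r) ((J ^ (n + 1)).subscheme.presheaf.stalk (z n))
        ((J ^ (n + 1)).subscheme.presheaf.stalk (z n) ⊗[X.presheaf.stalk y]
          F.presheaf.stalk y)) := by
    intro n y hy hyJ
    subst hy
    have he : (X.presheaf.stalkCongr (Inseparable.of_eq (rfl : i n (z n) = i n (z n)).symm)).hom ≫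
        (i n).stalkMap (z n) = (i n).stalkMap (z n) := by
      simp [TopCat.Presheaf.stalkCongr]
    rw [he]
    refine ⟨(i n).stalkMap_surjective (z n), ?_, ?_⟩
    · obtain ⟨U, hU, hxU⟩ := Groth.QCohMod.exists_affine_mem (i n (z n))
      refine (Groth.Ega4b.ker_stalkMap_eq_map (i n) hU (z n) hxU).trans_le ?_
      rw [Scheme.IdealSheafData.ker_subschemeι, Scheme.IdealSheafData.ideal_pow, Pi.pow_apply,
        Ideal.map_pow]
      refine Ideal.pow_right_mono ?_ _
      rw [Ideal.map_le_iff_le_comap]
      intro s hs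
      rw [Ideal.mem_comap, IsLocalRing.mem_maximalIdeal, mem_nonunits_iff]
      intro hunit
      have := (Scheme.IdealSheafData.mem_support_iff_of_mem (U := ⟨U, hU⟩) hxU).1 hyJ
      rw [Scheme.mem_zeroLocus_iff] at this
      exact this s hs ((X.mem_basicOpen s _ hxU).2 hunit)
    · let _ := Groth.QCohMod.stalkAlg (i n) (z n)
      have : ((Scheme.Modules.pullback (i n)).obj F).IsQuasicoherent :=
        Groth.KTheory.LocFree.isQCoh (h n)
      obtain ⟨U, r, s, -, hxU, hs⟩ := Groth.LocFree.exists_affine_basis (h n) (z n)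
      obtain ⟨b⟩ := Groth.LocFree.nonempty_stalk_basis hs hxU
      exact ⟨r, ⟨b.map (Groth.QCohMod.pullStalkEquiv (i n) F (z n)).symm⟩⟩
  have hk := fun n => key n x (hz n) hx
  choose r hb using fun n => (hk n).2.2
  have hle : ∀ m n, r n ≤ r m := fun m n =>
    rank_le (hk m).1 (hb m).some (hk n).1 (hb n).some
  obtain ⟨bas⟩ := nonempty_basis_of_quotients (r 0) (fun n => (J ^ (n + 1)).subscheme.presheaf.stalk (z n))
    (fun n => (hk n).1) (fun n => (hk n).2.1)
    (fun n => le_antisymm (hle 0 n) (hle n 0) ▸ hb n)
  exact Module.Free.of_basis bas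

end Groth.LefAlg
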