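import Groth.Agent.LefAlg.KerSys
import Groth.Agent.LefAlg.AlgHom
import Groth.Agent.LefAlg.StalkFree
import Groth.Agent.CohBase.FibreConsequencesFP
import Groth.Agent.FlatStrata.FlatModel
import Groth.Agent.KTheory.LocFree

/-!
# Algebraisation of formal vector bundles along an ample effective divisor
-/

set_option autoImplicit false

universe u

open CategoryTheory CategoryTheory.Limits AlgebraicGeometry TopologicalSpace

namespace Groth.LefAlg

variable {X : Scheme.{u}} {I : X.IdealSheafData}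

/-- Direct image of the kernel along a closed immersion. -/
theorem nonempty_kernel_push {Z : Scheme.{u}} (i : Z ⟶ X) {M N : Z.Modules} (a : M ⟶ N) :
    Nonempty (kernel ((Scheme.Modules.pushforward i).map a) ≅
      (Scheme.Modules.pushforward i).obj (kernel a)) := by
  have : (Scheme.Modules.pushforward i).IsRightAdjoint :=
    (Scheme.Modules.pullbackPushforwardAdjunction i).isRightAdjoint
  have : PreservesLimits (Scheme.Modules.pushforward i) :=
    (Scheme.Modules.pullbackPushforwardAdjunction i).rightAdjoint_preservesLimits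
  exact ⟨(PreservesKernel.iso (Scheme.Modules.pushforward i) a).symm⟩

theorem epi_unitLvl (I : X.IdealSheafData) (E : X.Modules) [E.IsQuasicoherent] (b : ℕ) :
    Epi (unitLvl I E b) := by
  have : (pushLvl (FSch.complMod I E) b).IsQuasicoherent :=
    haveI : ((FSch.complMod I E).F b).IsQuasicoherent :=
      Groth.QCohMod.isQCoh_pullback_obj (FSch.completionToX X I b) E
    Groth.QCohMod.isQCoh_pushforward (M := (FSch.complMod I E).F b) (FSch.completionToX X I b)
  refine Groth.OmegaSheaf.epi_of_affine_cover _ fun x => ?_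
  obtain ⟨V, hx, -⟩ := LefSections.exists_affine_le (⊤ : X.Opens) (x := x) trivial
  exact ⟨V.1, V.2, hx, (unitLvl_facts I E b V).1⟩

theorem app_trans {C D : Type*} [Category C] [Category D] {P Q R : C ⥤ D} (α : P ≅ Q) (β : Q ≅ R)
    (M : C) : (α ≪≫ β).app M = α.app M ≪≫ β.app M :=
  Iso.ext rfl

theorem comm_id {C D : Type*} [Category C] [Category D] (G : C ⥤ D) {M : C} {N : D}
    (e e' : G.obj M ≅ N) (h : e = e') : G.map (𝟙 M) ≫ e.hom = e'.hom ≫ 𝟙 N := by
  rw [h, G.map_id, Category.id_comp, Category.comp_id]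

/-- The two completions of a module agree. -/
theorem completionMod_e (I : X.IdealSheafData) (F : X.Modules) (n : ℕ) :
    (FSch.completionMod I F).e n = (FSch.complMod I F).e n := by
  rw [FSch.complMod_e]
  delta FSch.completionMod FSch.complTransIso
  dsimp only
  exact (app_trans _ _ _).symm

/-- A coherent module whose completion is levelwise finite locally free algebraises it near the
support. -/
theorem exists_nhd_of_iso [IsLocallyNoetherian X] (I : X.IdealSheafData) {F : X.Modules}
    (hF : Coh.IsCoh F) (𝔐 : FSch.ModSys (FSch.completionAlong X I))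
    (h : LefX.LevelwiseFinLocFree 𝔐) (φ : FSch.complMod I F ≅ 𝔐) :
    ∃ (U : X.Opens) (E : (U : Scheme.{u}).Modules), (I.support : Set X) ⊆ (U : Set X) ∧
      FlatMod.IsFinLocFree E ∧
      Nonempty (FSch.completionMod I ((Scheme.Modules.pushforward U.ι).obj E) ≅ 𝔐) := by
  have := hF.1
  have hlev : ∀ n, FlatMod.IsFinLocFree ((Scheme.Modules.pullback (I ^ (n + 1)).subschemeι).obj F) :=
    fun n => Groth.KTheory.LocFree.isFinLocFree_of_iso
      (⟨φ.inv.app n, φ.hom.app n, congrArg (fun t : FSch.ModSys.Hom _ _ => t.app n) φ.inv_hom_id,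
        congrArg (fun t : FSch.ModSys.Hom _ _ => t.app n) φ.hom_inv_id⟩ :
        𝔐.F n ≅ (FSch.complMod I F).F n) (h n)
  have hnhd : ∀ x : (I.support : Set X), ∃ (W : X.Opens) (n : ℕ) (s : Fin n → Γ(F, W)),
      x.1 ∈ W ∧ Groth.PicAux.Basis' F W s := by
    intro x
    obtain ⟨D, n, hx, ⟨e⟩⟩ := Groth.PropsBasic.LocFree.exists_free_nhd F
      (Groth.FlatStrata.isFP_of_isCoh hF) x.1 (free_stalk_of_levels F hF I hlev x.1 x.2)
    obtain ⟨s, hs⟩ := Groth.LocFree.exists_basis_of_iso e
    exact ⟨D, n, s, hx, hs⟩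
  choose W n s hxW hs using hnhd
  let U : X.Opens := ⨆ x, W x
  have hU : (I.support : Set X) ⊆ (U : Set X) := fun x hx =>
    Opens.mem_iSup.2 ⟨⟨x, hx⟩, hxW ⟨x, hx⟩⟩
  refine ⟨U, F.restrict U.ι, hU, Groth.CohBase.isFinLocFree_restrict_of_forall fun y hy => ?_, ?_⟩
  · obtain ⟨x, hx⟩ := Opens.mem_iSup.1 hy
    exact ⟨W x, n x, s x, hx, hs x⟩
  let η : F ⟶ (Scheme.Modules.pushforward U.ι).obj (F.restrict U.ι) :=
    (Scheme.Modules.restrictAdjunction U.ι).unit.app F
  have h1 : IsIso ((Scheme.Modules.restrictFunctor U.ι).map η) := by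
    have : IsIso ((Scheme.Modules.restrictAdjunction U.ι).counit.app
      ((Scheme.Modules.restrictFunctor U.ι).obj F)) := inferInstance
    exact IsIso.of_isIso_fac_right ((Scheme.Modules.restrictAdjunction U.ι).left_triangle_components F)
  have h2 : IsIso ((Scheme.Modules.pullback U.ι).map η) :=
    (NatIso.isIso_map_iff (Scheme.Modules.restrictFunctorIsoPullback U.ι) η).1 h1
  have h3 : ∀ n, IsIso (FSch.ModSys.Hom.app (FSch.complModMap I η) n) := by
    intro n
    have hr : Set.range (I ^ (n + 1)).subschemeι = I.support := by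
      rw [Scheme.IdealSheafData.range_subschemeι, Scheme.IdealSheafData.support_pow_succ]
    let g := IsOpenImmersion.lift U.ι (I ^ (n + 1)).subschemeι
      (by rw [hr, Scheme.Opens.range_ι]; exact hU)
    have hg : g ≫ U.ι = (I ^ (n + 1)).subschemeι := IsOpenImmersion.lift_fac _ _ _
    exact (NatIso.isIso_map_iff (Scheme.Modules.pullbackComp g U.ι ≪≫
      Scheme.Modules.pullbackCongr hg) η).1
      (inferInstanceAs (IsIso ((Scheme.Modules.pullback g).map ((Scheme.Modules.pullback U.ι).map η))))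
  let ψ : FSch.complMod I F ≅ FSch.complMod I ((Scheme.Modules.pushforward U.ι).obj (F.restrict U.ι)) :=
    Groth.AdicLinTop.AlgzBridge.isoOfApp (FSch.complModMap I η) h3
  let θ : FSch.completionMod I ((Scheme.Modules.pushforward U.ι).obj (F.restrict U.ι)) ⟶
      FSch.complMod I ((Scheme.Modules.pushforward U.ι).obj (F.restrict U.ι)) :=
    ⟨fun _ => 𝟙 _, fun n => comm_id (Scheme.Modules.pullback ((FSch.completionAlong X I).ι n)) _ _
      (completionMod_e I _ n).symm⟩
  exact ⟨Groth.AdicLinTop.AlgzBridge.isoOfApp θ (fun n => inferInstanceAs (IsIso (𝟙 _))) ≪≫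
    ψ.symm ≪≫ φ⟩

/-- Algebraisation of levelwise finite locally free systems along an ample effective divisor. -/
theorem exists_algebraisation (A : Type u) [CommRing A] [X.Over (Spec (CommRingCat.of A))]
    [IsNoetherianRing A] [IsProper (X ↘ Spec (CommRingCat.of A))] (I : X.IdealSheafData)
    {L : X.Modules} (hI : BlowUp.IsEffCartierIdeal I) (hL : ClSub.IsInverseOf L (ClSub.idealMod I))
    (hamp : CohB1.IsAmple L)
    (hLef : ∀ D : X.Modules, FlatMod.IsFinLocFree D → Lef.HomToFormalBijective I D)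
    (hV : ∀ N₀ : ((FSch.completionAlong X I).X 0).Modules, FlatMod.IsFinLocFree N₀ →
      Van L ((Scheme.Modules.pushforward (FSch.completionToX X I 0)).obj N₀))
    (𝔐 : FSch.ModSys (FSch.completionAlong X I)) (h𝔐 : LefX.LevelwiseFinLocFree 𝔐) :
    ∃ (U : X.Opens) (E : (U : Scheme.{u}).Modules), (I.support : Set X) ⊆ (U : Set X) ∧
      FlatMod.IsFinLocFree E ∧
      Nonempty (FSch.completionMod I ((Scheme.Modules.pushforward U.ι).obj E) ≅ 𝔐) := by
  have : IsLocallyNoetherian X :=
    LocallyOfFiniteType.isLocallyNoetherian (X ↘ Spec (CommRingCat.of A))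
  obtain ⟨s, hs⟩ := exists_divSec hI hL
  -- generators
  have hP := strict_pushLvl s 𝔐 h𝔐
  obtain ⟨E, g, hE, hg, hgepi⟩ := exists_gen A hL hamp hs hP (isCoh_pushLvl 𝔐 h𝔐) (hV _ (h𝔐 0))
  have := Groth.KTheory.LocFree.isQCoh hE
  have hÊ : LefX.LevelwiseFinLocFree (FSch.complMod I E) := fun b =>
    Groth.LocFree.isFinLocFree_pullback (FSch.completionToX X I b) hE
  have hPE := strict_pushLvl (L := L) s (FSch.complMod I E) hÊ
  let a : ∀ b, (FSch.complMod I E).F b ⟶ 𝔐.F b := fun b => down 𝔐 (g b)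
  let w : ∀ b, pushLvl (FSch.complMod I E) b ⟶ pushLvl 𝔐 b := fun b =>
    (Scheme.Modules.pushforward (FSch.completionToX X I b)).map (a b)
  have huw : ∀ b, unitLvl I E b ≫ w b = g b := fun b => by
    refine ((Scheme.Modules.pullbackPushforwardAdjunction
      (FSch.completionToX X I b)).homEquiv_naturality_right _ (a b)).symm.trans ?_
    exact (congrArg (up 𝔐) (Category.id_comp (a b))).trans (up_down 𝔐 (g b))
  have hunit := epi_unitLvl I E
  have hw : ∀ b, pushTr (FSch.complMod I E) b ≫ w b = w (b + 1) ≫ pushTr 𝔐 b := fun b => by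
    have := hunit (b + 1)
    rw [← cancel_epi (unitLvl I E (b + 1)), ← Category.assoc, unitLvl_tr, huw, ← Category.assoc,
      huw, hg]
  have hwepi : ∀ b, Epi (w b) := fun b => by
    have := hgepi b
    exact epi_of_epi_fac (huw b)
  have hK := hPE.kernel hP w hw
  have hKcoh : ∀ b, Coh.IsCoh (kernel (w b)) := fun b => by
    have := hP.qcoh b
    exact Groth.QCohMod.isCoh_kernel (w b) (isCoh_pushLvl _ hÊ b)
  have hVK : Van L (kernel (w 0)) := by
    have : Epi (a 0) := (Scheme.Modules.pushforward (FSch.completionToX X I 0)).epi_of_epi_map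
      (hwepi 0)
    have : IsLocallyNoetherian ((FSch.completionAlong X I).X 0) :=
      LocallyOfFiniteType.isLocallyNoetherian (FSch.completionToX X I 0)
    have hk : FlatMod.IsFinLocFree (kernel (a 0)) :=
      Groth.KTheory.LocFree.isFinLocFree_of_shortExact_right (kernelSeq_shortExact (a 0)) (hÊ 0)
        (h𝔐 0)
    obtain ⟨e⟩ := nonempty_kernel_push (FSch.completionToX X I 0) (a 0)
    obtain ⟨m₀, hm₀⟩ := hV _ hk
    exact ⟨m₀, fun m hm N hN => hm₀ m hm N ⟨hN.some ≪≫ e⟩⟩
  obtain ⟨E₁, g₁, hE₁, hg₁, hg₁epi⟩ := exists_gen A hL hamp hs hK hKcoh hVK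
  let ψ : ∀ b, E₁ ⟶ pushLvl (FSch.complMod I E) b := fun b => g₁ b ≫ kernel.ι (w b)
  have hψ : ∀ b, ψ (b + 1) ≫ pushTr (FSch.complMod I E) b = ψ b := fun b => by
    have e : kerTr w hw b ≫ kernel.ι (w b) =
        kernel.ι (w (b + 1)) ≫ pushTr (FSch.complMod I E) b := kernel.lift_ι _ _ _
    rw [Category.assoc, ← e, ← Category.assoc, hg₁]
  obtain ⟨φ, hφ⟩ := exists_algebraic_hom I hE₁ hE
    (hLef _ (Groth.LocFree.isFinLocFree_homSh (Groth.LocFree.isFinLocFree_homSh hE₁ hE)
      (Groth.LocFree.isFinLocFree_unit X))) ψ hψ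
  have := Groth.KTheory.LocFree.isQCoh hE₁
  let F := cokernel φ
  have hF : Coh.IsCoh F := Groth.QCohMod.isCoh_cokernel φ (Groth.KTheory.LocFree.isCoh hE)
  have hFq := hF.1
  have hkill : ∀ b, φ ≫ g b = 0 := fun b => by
    rw [← huw b, ← Category.assoc, hφ, Category.assoc, kernel.condition, comp_zero]
  let gF : ∀ b, F ⟶ pushLvl 𝔐 b := fun b => cokernel.desc φ (g b) (hkill b)
  have hgF : ∀ b, gF (b + 1) ≫ pushTr 𝔐 b = gF b := fun b => by
    rw [← cancel_epi (cokernel.π φ), cokernel.π_desc_assoc, cokernel.π_desc, hg]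
  let α : FSch.complMod I F ⟶ 𝔐 := ⟨fun b => down 𝔐 (gF b), fun b =>
    down_comm 𝔐 b ((congrArg (· ≫ pushTr 𝔐 b) (up_down 𝔐 (gF (b + 1)))).trans
      ((hgF b).trans (up_down 𝔐 (gF b)).symm))⟩
  refine exists_nhd_of_iso I hF 𝔐 h𝔐 (Groth.AdicLinTop.AlgzBridge.isoOfApp α fun b => ?_)
  let i := FSch.completionToX X I b
  let z : pushLvl (FSch.complMod I E) b ⟶ pushLvl (FSch.complMod I F) b :=
    (Scheme.Modules.pushforward i).map ((Scheme.Modules.pullback i).map (cokernel.π φ))
  have e : unitLvl I E b ≫ z = cokernel.π φ ≫ unitLvl I F b := by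
    refine (((Scheme.Modules.pullbackPushforwardAdjunction i).homEquiv_naturality_right _
      ((Scheme.Modules.pullback i).map (cokernel.π φ))).symm.trans ?_).trans
      (up_comp (FSch.complMod I F) (cokernel.π φ) (𝟙 _))
    exact congrArg (up (FSch.complMod I F))
      ((Category.id_comp _).trans (Category.comp_id _).symm)
  have hz : ψ b ≫ z = 0 := by
    rw [← hφ b, Category.assoc, e, ← Category.assoc, cokernel.condition, zero_comp]
  have hz' : kernel.ι (w b) ≫ z = 0 := by
    have := hg₁epi b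
    rw [← cancel_epi (g₁ b), comp_zero, ← Category.assoc]
    exact hz
  have := hwepi b
  let r := Abelian.epiDesc (w b) z hz'
  let p : pushLvl (FSch.complMod I F) b ⟶ pushLvl 𝔐 b :=
    (Scheme.Modules.pushforward i).map (down 𝔐 (gF b))
  have hzp : z ≫ p = w b := by
    refine ((Scheme.Modules.pushforward i).map_comp _ _).symm.trans (congrArg _ ?_)
    exact (((Scheme.Modules.pullbackPushforwardAdjunction i).homEquiv_naturality_left_symm
      (cokernel.π φ) (gF b)).symm).trans (congrArg (down 𝔐) (cokernel.π_desc φ (g b) (hkill b)))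
  have hzepi : Epi z := by
    have := epi_unitLvl I F b
    exact epi_of_epi_fac e
  have hrp : r ≫ p = 𝟙 _ := by
    rw [← cancel_epi (w b), ← Category.assoc, Abelian.comp_epiDesc, hzp, Category.comp_id]
  have hpr : p ≫ r = 𝟙 _ := by
    rw [← cancel_epi z, ← Category.assoc, hzp, Abelian.comp_epiDesc, Category.comp_id]
  have : IsIso ((Scheme.Modules.pushforward i).map (FSch.ModSys.Hom.app α b)) := ⟨r, hpr, hrp⟩
  exact isIso_of_reflects_iso (FSch.ModSys.Hom.app α b) (Scheme.Modules.pushforward i)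

end Groth.LefAlg
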