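import Groth.Agent.LefAlg.FieldVan
import Groth.Agent.LefVanish.Reduce

/-!
# Leff for ample effective divisors over a field
-/

set_option autoImplicit false

universe u

open CategoryTheory CategoryTheory.Limits AlgebraicGeometry

namespace Groth.LefAlg

variable {X : Scheme.{u}}

/-- Depth two on `X` and on the divisor gives the effective Lefschetz condition. -/
theorem leffCond_of_ample (k : Type u) [Field k] [X.Over (Spec (CommRingCat.of k))]
    [IsProper (X ↘ Spec (CommRingCat.of k))] (I : X.IdealSheafData) (L : X.Modules)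
    (hL : ClSub.IsInverseOf L (ClSub.idealMod I)) (hamp : CohB1.IsAmple L)
    (hd : ∀ z : X, IsClosed ({z} : Set X) →
      (2 : ℕ∞) ≤ LocCoh.depth (X.presheaf.stalk z) (X.presheaf.stalk z))
    (hd0 : ∀ z : I.subscheme, IsClosed ({z} : Set I.subscheme) →
      (2 : ℕ∞) ≤ LocCoh.depth (I.subscheme.presheaf.stalk z) (I.subscheme.presheaf.stalk z)) :
    LefX.LeffCond X I := by
  have hC : BlowUp.IsEffCartierIdeal I :=
    PicAux.isEffCartierIdeal_of_isInvertible (PicAux.isInvertible_of_isInverseOf hamp.1 hL)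
  refine ⟨LefVanish.lefCond_of_ample k I L hL hamp hd, fun 𝔐 h𝔐 => exists_algebraisation k I hC hL hamp
    (fun D hD => LefVanish.homToFormalBijective_ample k I L hL hamp hd D hD) (fun N₀ hN₀ => ?_) 𝔐 h𝔐⟩
  refine van_of_depth k hamp hL (FSch.completionToX X I 0) ?_ hN₀
  have key : ∀ J : X.IdealSheafData, J = I → ∀ z : J.subscheme, IsClosed ({z} : Set J.subscheme) →
      (2 : ℕ∞) ≤ LocCoh.depth (J.subscheme.presheaf.stalk z) (J.subscheme.presheaf.stalk z) := by
    intro J hJ
    subst hJ
    exact hd0
  exact key (I ^ (0 + 1)) (by rw [zero_add, pow_one])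

end Groth.LefAlg
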