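import Groth.Agent.S2824
import Groth.Agent.Pi1Depth.Basic
import Groth.Agent.PicAux.Pullback
import Groth.Agent.PicAux.PullTensor
import Groth.Agent.PicAux.Powers
import Groth.Prelude.Def_Formal2

/-!
# Small helpers for restriction of Picard groups
-/

set_option autoImplicit false

universe u

open CategoryTheory AlgebraicGeometry
open Groth.PicAux

namespace Groth.LefAlg

/-- Global functions extend over the closed point in depth two. -/
theorem bijective_map_punctured (R : Type u) [CommRing R] [IsNoetherianRing R] [IsLocalRing R]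
    (h : (2 : ℕ∞) ≤ LocCoh.depth R R) :
    Function.Bijective ((Spec (CommRingCat.of R)).presheaf.map
      (homOfLE (le_top : FEt.puncturedSpec R ≤ ⊤)).op) := by
  let U := FEt.puncturedSpec R
  have e : U ≤ U.ι ''ᵁ U.ι ⁻¹ᵁ ⊤ := by
    rw [Scheme.Hom.preimage_top, Scheme.Opens.ι_image_top]
  have e' : U.ι ''ᵁ U.ι ⁻¹ᵁ ⊤ ≤ U := Scheme.Opens.ι_image_le U _
  have hb := Groth.Pi1Depth.bijective_app_puncturedSpec R h ⊤
  rw [Scheme.Opens.ι_app] at hb
  have : IsIso (homOfLE e).op :=
    ⟨(homOfLE e').op, Subsingleton.elim _ _, Subsingleton.elim _ _⟩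
  have hi := ConcreteCategory.bijective_of_isIso ((Spec (CommRingCat.of R)).presheaf.map (homOfLE e).op)
  have := hi.comp hb
  have e2 : (homOfLE (le_top : U ≤ ⊤)).op =
      (homOfLE (le_top : U.ι ''ᵁ U.ι ⁻¹ᵁ ⊤ ≤ ⊤)).op ≫ (homOfLE e).op := Subsingleton.elim _ _
  change Function.Bijective ((Spec (CommRingCat.of R)).presheaf.map (homOfLE (le_top : U ≤ ⊤)).op)
  rw [e2, Functor.map_comp]
  exact this

/-- Trivial kernel gives injectivity on isomorphism classes. -/
theorem nonempty_iso_of_picPullbackInjective {Y Y' : Scheme.{u}} (g : Y' ⟶ Y)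
    (h : Formal2.PicPullbackInjective g) {M M' : Y.Modules} (hM : PicF.IsInvertible M)
    (hM' : PicF.IsInvertible M')
    (e : Nonempty ((Scheme.Modules.pullback g).obj M ≅ (Scheme.Modules.pullback g).obj M')) :
    Nonempty (M ≅ M') := by
  obtain ⟨ψ⟩ := e
  obtain ⟨K, hK, ⟨u⟩⟩ := exists_isInverseOf hM'
  obtain ⟨a, -⟩ := exists_pullback_tensorMod g K M
  obtain ⟨b, -⟩ := exists_pullback_tensorMod g K M'
  have := isIso_pullUnit g
  obtain ⟨v⟩ := h (CohB1.tensorMod K M) (isInvertible_tensorMod hK hM)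
    ⟨a ≪≫ PicGrp.tensorModIso (Iso.refl _) ψ ≪≫ b.symm ≪≫
      (Scheme.Modules.pullback g).mapIso ((exists_braiding K M').choose ≪≫ u) ≪≫ asIso (pullUnit g)⟩
  exact isInverseOf_unique (L := K) ⟨v⟩ ⟨(exists_braiding K M').choose ≪≫ u⟩

end Groth.LefAlg
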