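import Groth.Agent.LefAlg.Gen
import Groth.Agent.LefSections.Basic
import Groth.Agent.CohTwo.PushClosed

/-!
# The system of structure modules of the thickenings; `ker (O/I^(m+2) → O/I^(m+1)) ≅ I^(m+1) ⊗ O/I`
-/

set_option autoImplicit false

universe u

open CategoryTheory CategoryTheory.Limits AlgebraicGeometry
open Groth.PicAux

namespace Groth.LefAlg

variable {X : Scheme.{u}} {I : X.IdealSheafData} {L : X.Modules} {s : Coh.structureModule X ⟶ L}

theorem strict_quotMod :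
    Strict I L s (fun b : ℕ => ClSub.quotMod (I ^ (b + 1) : X.IdealSheafData))
      (fun b : ℕ => Lef.quotMap (Lef.pow_succ_le I b)) := by
  have hq : ∀ b : ℕ, (ClSub.quotMod (I ^ (b + 1) : X.IdealSheafData)).IsQuasicoherent := fun b =>
    haveI := PicAux.isQCoh_structureModule (I ^ (b + 1)).subscheme
    Groth.QCohMod.isQCoh_pushforward (M := Coh.structureModule (I ^ (b + 1)).subscheme)
      (I ^ (b + 1)).subschemeι
  have hs : ∀ (b : ℕ) (V : X.affineOpens),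
      Function.Surjective ((ClSub.toSubscheme (I ^ (b + 1) : X.IdealSheafData)).app V.1) := fun b V =>
    (I ^ (b + 1)).subschemeι_app_surjective V
  have hz : ∀ (b : ℕ) (V : X.affineOpens) t e, IsChart I L s V t e → ∀ a : Γ(Coh.structureModule X, V.1),
      (ClSub.toSubscheme (I ^ (b + 1))).app V.1 a = 0 ↔ ∃ c : Γ(X, V.1), toFun a = t ^ (b + 1) * c := by
    intro b V t e hc a
    rw [LefSections.toSub_eq_zero_iff, Scheme.IdealSheafData.ideal_pow, Pi.pow_apply, hc.ideal_eq,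
      Ideal.span_singleton_pow, Ideal.mem_span_singleton]
    rfl
  have hc' : ∀ (b : ℕ) (V : X.affineOpens) (a : Γ(Coh.structureModule X, V.1)),
      (Lef.quotMap (Lef.pow_succ_le I b)).app V.1 ((ClSub.toSubscheme (I ^ (b + 1 + 1))).app V.1 a) =
        (ClSub.toSubscheme (I ^ (b + 1))).app V.1 a := fun b V a =>
    congrArg (fun φ => Scheme.Modules.Hom.app φ V.1 a) (LefSections.toSub_quotMap (Lef.pow_succ_le I b))
  refine ⟨hq, fun b V t e hc p => ?_, fun b V t e hc p => ?_, fun b V t e hc p hp => ?_,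
    fun b V t e hc p hp => ?_⟩
  · obtain ⟨a, rfl⟩ := hs b V p
    exact ⟨_, hc' b V a⟩
  · obtain ⟨a, rfl⟩ := hs b V p
    rw [← Scheme.Modules.Hom.app_smul, hz b V t e hc]
    exact ⟨toFun a, rfl⟩
  · obtain ⟨a, rfl⟩ := hs (b + 1) V p
    rw [hc', hz b V t e hc] at hp
    obtain ⟨c, hc1⟩ := hp
    refine ⟨(ClSub.toSubscheme (I ^ (b + 1 + 1))).app V.1 (c • oneSec X V.1), ?_⟩
    rw [← Scheme.Modules.Hom.app_smul, ← mul_smul, ← hc1, ← eq_toFun_smul_oneSec]
  · obtain ⟨a, rfl⟩ := hs (b + 1) V p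
    rw [← Scheme.Modules.Hom.app_smul, hz (b + 1) V t e hc] at hp
    obtain ⟨c, hc1⟩ := hp
    refine ⟨(ClSub.toSubscheme (I ^ (b + 1 + 1))).app V.1 (c • oneSec X V.1), ?_⟩
    rw [← Scheme.Modules.Hom.app_smul, ← mul_smul]
    have : toFun a = t ^ (b + 1) * c := by
      refine sub_eq_zero.1 ((mem_nonZeroDivisors_iff_left.1 hc.nzd.mem_nonZeroDivisors) _ ?_)
      rw [mul_sub, sub_eq_zero, ← mul_assoc, ← pow_succ', ← hc1, toFun_smul]
    rw [← this, ← eq_toFun_smul_oneSec]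

/-- `ker (P (j+1) ⟶ P j)` twisted `j+1` times is `P 0`. -/
theorem nonempty_itT_kernel {P : ℕ → X.Modules} {π : ∀ b, P (b + 1) ⟶ P b}
    (hL : PicF.IsInvertible L) (hs : DivSec I L s) (h : Strict I L s P π) (j : ℕ) :
    Nonempty ((itT L (j + 1)).obj (kernel (π j)) ≅ P 0) := by
  obtain ⟨_, _, _⟩ := exact_itT hL (j + 1)
  refine ⟨PreservesKernel.iso (itT L (j + 1)) (π j) ≪≫ Nonempty.some ?_⟩
  induction j with
  | zero => exact ⟨(nonempty_kernel_zero hL hs h).some.symm⟩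
  | succ j ih =>
    obtain ⟨_, _, _⟩ := exact_itT hL (j + 1)
    exact ⟨(nonempty_kernel_succ hL hs (h.itT hL (j + 1)) j).some.symm ≪≫ (ih ‹_› ‹_› ‹_›).some⟩

/-- `ker (O/I^(m+2) → O/I^(m+1)) ≅ I^(m+1) ⊗ O/I`. -/
theorem nonempty_kernel_quotMap {I : X.IdealSheafData} (hI : BlowUp.IsEffCartierIdeal I) (m : ℕ) :
    Nonempty (kernel (Lef.quotMap (Lef.pow_succ_le I m)) ≅
      CohB1.tensorMod (CohB1.tensorPow (ClSub.idealMod I) (m + 1)) (ClSub.quotMod I)) := by
  obtain ⟨L, hL, hinv⟩ := exists_isInverseOf (isInvertible_idealMod hI)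
  have hLK : ClSub.IsInverseOf L (ClSub.idealMod I) := isInverseOf_symm hinv
  obtain ⟨s, hs⟩ := exists_divSec hI hLK
  obtain ⟨e⟩ := nonempty_itT_kernel hL hs (strict_quotMod (I := I) (L := L) (s := s)) m
  obtain ⟨θ⟩ := nonempty_itT_cancel hLK (m + 1)
  obtain ⟨p⟩ := nonempty_itT_pow (ClSub.idealMod I) (ClSub.quotMod (I ^ (0 + 1))) (m + 1)
  refine ⟨(θ.app _).symm ≪≫ (itT _ (m + 1)).mapIso e ≪≫ p ≪≫ (exists_braiding _ _).choose ≪≫ ?_⟩
  exact eqToIso (by rw [zero_add, pow_one])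

end Groth.LefAlg
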