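import Groth.Agent.LefAlg.Strict
import Groth.Agent.EulerDeg.HLinear
import Groth.Agent.PnCoh.AmpleVanishing
import Groth.Agent.CohFin.ProjFinite

/-!
# Lifting sections of highly twisted strict systems
-/

set_option autoImplicit false

universe u

open CategoryTheory CategoryTheory.Limits AlgebraicGeometry
open Groth.PicAux
open Groth.CohTwo.SheafHomIso (tF tF_map_tmulSec)
open Groth.EulerDeg (hMap)

namespace Groth.LefAlg

theorem exists_family : ∀ (b₀ : ℕ) {A : ℕ → Type u} (r : ∀ b, A (b + 1) → A b),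
    (∀ b, b₀ ≤ b → Function.Surjective (r b)) → ∀ x : A b₀,
      ∃ v : ∀ b, A b, (∀ b, r b (v (b + 1)) = v b) ∧ v b₀ = x
  | 0, A, r, hr, x =>
    ⟨fun b => Nat.rec (motive := A) x (fun n y => Function.surjInv (hr n (Nat.zero_le n)) y) b,
      fun b => Function.surjInv_eq (hr b (Nat.zero_le b)) _, rfl⟩
  | b₀ + 1, A, r, hr, x => by
    obtain ⟨v, hv, hx⟩ := exists_family b₀ (A := fun b => A (b + 1)) (fun b => r (b + 1))
      (fun b hb => hr (b + 1) (Nat.succ_le_succ hb)) x
    refine ⟨fun b => Nat.casesOn b (r 0 (v 0)) v, fun b => ?_, hx⟩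
    cases b with
    | zero => rfl
    | succ b => exact hv b

variable {X : Scheme.{u}} {I : X.IdealSheafData} {L : X.Modules} {s : Coh.structureModule X ⟶ L}
  {P : ℕ → X.Modules} {π : ∀ b, P (b + 1) ⟶ P b}

theorem top_map (F : X.Modules ⥤ X.Modules) : ∀ b : ℕ,
    top (P := fun b => F.obj (P b)) (fun b => F.map (π b)) b = F.map (top π b)
  | 0 => (F.map_id _).symm
  | b + 1 => by
    change F.map (π b) ≫ top (P := fun b => F.obj (P b)) (fun b => F.map (π b)) b = F.map (π b ≫ top π b)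
    rw [top_map F b, F.map_comp]

theorem nonempty_itT_pow (L M : X.Modules) : ∀ d : ℕ,
    Nonempty ((itT L d).obj M ≅ CohB1.tensorMod M (CohB1.tensorPow L d))
  | 0 => ⟨(SecTwist.unitorR M).symm⟩
  | d + 1 => ⟨(tF L).mapIso (nonempty_itT_pow L M d).some ≪≫
      (exists_braiding L (CohB1.tensorMod M (CohB1.tensorPow L d))).choose ≪≫
      (exists_associator M (CohB1.tensorPow L d) L).choose⟩

section

variable (A : Type u) [CommRing A] [X.Over (Spec (CommRingCat.of A))]

theorem surjective_app_top {S : ShortComplex X.Modules} (hS : S.ShortExact)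
    (h : Function.Injective (hMap A S.f 1)) : Function.Surjective (S.g.app ⊤) := by
  let e := fun M : X.Modules => Sheaf.H.equiv₀ (Coh.toAb M) (T := (⊤ : X.Opens)) isTerminalTop
  intro z
  obtain ⟨w, rfl⟩ := (e S.X₃).surjective z
  have h0 : Groth.EulerDeg.hDelta A hS 0 w = 0 := h <| by
    rw [(Groth.EulerDeg.exact_left A hS 0).apply_apply_eq_zero, map_zero]
  obtain ⟨v, hv⟩ := (Groth.EulerDeg.exact_right A hS 0 w).1 h0
  refine ⟨e S.X₂ v, ?_⟩
  rw [← hv]
  exact Sheaf.H.equiv₀_naturality (T := (⊤ : TopologicalSpace.Opens X)) isTerminalTop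
    (Groth.EulerDeg.abMap S.g) v

theorem kernelSeq_shortExact {M N : X.Modules} (φ : M ⟶ N) [Epi φ] :
    (ShortComplex.mk (kernel.ι φ) φ (kernel.condition φ)).ShortExact where
  exact := ShortComplex.exact_of_f_is_kernel _ (kernelIsKernel φ)
  mono_f := inferInstanceAs (Mono (kernel.ι φ))
  epi_g := ‹Epi φ›

variable [IsNoetherianRing A] [IsProper (X ↘ Spec (CommRingCat.of A))]

/-- The vanishing hypothesis on negative twists of `P 0`. -/
def Van (L : X.Modules) (P₀ : X.Modules) : Prop :=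
  ∃ m₀ : ℕ, ∀ m, m₀ ≤ m → ∀ N : X.Modules, Nonempty ((itT L m).obj N ≅ P₀) →
    Subsingleton (Coh.HH X N 1)

include A in
/-- Sections of high twists of `P 0` lift to compatible families of sections. -/
theorem exists_lift (hL : PicF.IsInvertible L) (hamp : CohB1.IsAmple L) (hs : DivSec I L s)
    (h : Strict I L s P π) (hcoh : ∀ b, Coh.IsCoh (P b)) (hV : Van L (P 0)) :
    ∃ e₀ : ℕ, ∀ e, e₀ ≤ e → ∀ u : Γ((itT L e).obj (P 0), (⊤ : X.Opens)),
      ∃ v : ∀ b, Γ((itT L e).obj (P b), (⊤ : X.Opens)),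
        (∀ b, ((itT L e).map (π b)).app ⊤ (v (b + 1)) = v b) ∧ v 0 = u := by
  obtain ⟨m₀, hm₀⟩ := hV
  let f := X ↘ Spec (CommRingCat.of A)
  obtain ⟨d₀, hd₀⟩ := Groth.PnCoh.exists_subsingleton_of_isAmple f hamp (P 0) (hcoh 0)
  have hser : ∀ d, d₀ ≤ d → Subsingleton (Coh.HH X ((itT L d).obj (P 0)) 1) := fun d hd => by
    have := hd₀ d hd 1 one_pos
    exact (Groth.EulerDeg.hEquiv A (nonempty_itT_pow L (P 0) d).some 1).toEquiv.subsingleton
  have hT := fun d => h.itT hL d
  have hk1 : ∀ d j, Nonempty (kernel ((itT L d).map (π (j + d))) ≅ kernel (π j)) := by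
    intro d j
    induction d with
    | zero => exact ⟨Iso.refl _⟩
    | succ d ih => exact ⟨(nonempty_kernel_succ hL hs (hT d) (j + d)).some.symm ≪≫ ih.some⟩
  have hk2 : ∀ j, Nonempty ((itT L (j + 1)).obj (kernel (π j)) ≅ P 0) := by
    intro j
    obtain ⟨_, _, _⟩ := exact_itT hL (j + 1)
    refine ⟨PreservesKernel.iso (itT L (j + 1)) (π j) ≪≫ Nonempty.some ?_⟩
    clear_value f
    induction j with
    | zero => exact ⟨(nonempty_kernel_zero hL hs h).some.symm⟩
    | succ j ih =>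
      obtain ⟨_, _, _⟩ := exact_itT hL (j + 1)
      exact ⟨(nonempty_kernel_succ hL hs (hT (j + 1)) j).some.symm ≪≫ (ih ‹_› ‹_› ‹_›).some⟩
  -- transition maps
  have hK : ∀ d b, m₀ + d ≤ b + 1 → Subsingleton (Coh.HH X (kernel ((itT L d).map (π b))) 1) := by
    intro d b hb
    obtain rfl | hlt := Nat.eq_or_lt_of_le (Nat.zero_le m₀)
    · rcases Nat.lt_or_ge b d with hbd | hbd
      · obtain rfl : d = b + 1 := by omega
        have := hm₀ 0 le_rfl (P 0) ⟨Iso.refl _⟩
        obtain ⟨_, _, _⟩ := exact_itT hL (b + 1)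
        exact (Groth.EulerDeg.hEquiv A
          ((PreservesKernel.iso (itT L (b + 1)) (π b)).symm ≪≫ (hk2 b).some) 1).toEquiv.subsingleton
      · obtain ⟨j, rfl⟩ : ∃ j, b = j + d := ⟨b - d, by omega⟩
        have := hm₀ (j + 1) (Nat.zero_le _) _ (hk2 j)
        exact (Groth.EulerDeg.hEquiv A (hk1 d j).some 1).toEquiv.subsingleton
    · obtain ⟨j, rfl⟩ : ∃ j, b = j + d := ⟨b - d, by omega⟩
      have := hm₀ (j + 1) (by omega) _ (hk2 j)
      exact (Groth.EulerDeg.hEquiv A (hk1 d j).some 1).toEquiv.subsingleton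
  let H : ℕ → ℕ → Type u := fun d b => Coh.HH X ((itT L d).obj (P b)) 1
  have hpinj : ∀ d b, m₀ + d ≤ b + 1 → Function.Injective (hMap A ((itT L d).map (π b)) 1) := by
    intro d b hb
    have := epi_π hs (hT d) b
    refine (injective_iff_map_eq_zero _).2 fun x hx => ?_
    obtain ⟨y, rfl⟩ := (Groth.EulerDeg.exact_mid A (kernelSeq_shortExact ((itT L d).map (π b))) 1 x).1 hx
    rw [Subsingleton.elim (h := hK d b hb) y 0, map_zero]
  let σH : ∀ d b, Coh.HH X ((itT L d).obj (P b)) 1 →ₗ[A]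
      Coh.HH X ((itT L (d + 1)).obj (P (b + 1))) 1 := fun d b => hMap A (sigma hs (hT d) b) 1
  have hcomm : ∀ d b x, hMap A ((itT L (d + 1)).map (π (b + 1))) 1 (σH d (b + 1) x) =
      σH d b (hMap A ((itT L d).map (π b)) 1 x) := by
    intro d b x
    have e := congrArg (fun φ => hMap A φ 1 x) (sigma_natural hs (hT d) b)
    rw [Groth.EulerDeg.hMap_comp, Groth.EulerDeg.hMap_comp] at e
    exact e
  have hσsurj : ∀ d b, d₀ ≤ d + 1 → Function.Surjective (σH d b) := by
    intro d b hd y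
    exact (Groth.EulerDeg.exact_mid A (seq_shortExact hL hs (hT d) b) 1 y).1
      (Subsingleton.elim (h := hser (d + 1) hd) _ _)
  -- stabilisation along a diagonal
  let T : ℕ → Type u := fun k => Coh.HH X ((itT L (d₀ + k)).obj (P (m₀ + (d₀ + k)))) 1
  let comp : ∀ k, T 0 →ₗ[A] T k := fun k => Nat.rec (motive := fun k => T 0 →ₗ[A] T k)
    LinearMap.id (fun k g => (σH (d₀ + k) (m₀ + (d₀ + k))).comp g) k
  have hcompsurj : ∀ k, Function.Surjective (comp k) := by
    intro k
    induction k with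
    | zero => exact fun y => ⟨y, rfl⟩
    | succ k ih => exact (hσsurj (d₀ + k) (m₀ + (d₀ + k)) (by omega)).comp ih
  have : Module.Finite A (T 0) := Groth.CohFin.hFin_of_proper Groth.CohFin.projFinite 1 X f _
    (isCoh_itT hL (hcoh _) d₀)
  have : IsNoetherian A (T 0) := isNoetherian_of_isNoetherianRing_of_finite A (T 0)
  have hmono : Monotone fun k => LinearMap.ker (comp k) := by
    refine monotone_nat_of_le_succ fun k x hx => ?_
    change (σH (d₀ + k) (m₀ + (d₀ + k))) (comp k x) = 0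
    rw [LinearMap.mem_ker.1 hx, map_zero]
  obtain ⟨n, hn⟩ := (monotone_stabilizes_iff_noetherian.2 this) ⟨_, hmono⟩
  have hdiag : ∀ d, d₀ + n ≤ d → ∀ x, σH d (m₀ + d) x = 0 → x = 0 := by
    intro d hd
    obtain ⟨k, rfl⟩ : ∃ k, d = d₀ + k := ⟨d - d₀, by omega⟩
    intro x hx
    obtain ⟨y, rfl⟩ := hcompsurj k x
    have h1 : y ∈ LinearMap.ker (comp (k + 1)) := hx
    have h2 : LinearMap.ker (comp (k + 1)) = LinearMap.ker (comp k) :=
      ((hn (k + 1) (by omega)).symm.trans (hn k (by omega)))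
    exact LinearMap.mem_ker.1 (h2 ▸ h1)
  have hσinj : ∀ d b, d₀ + n ≤ d → m₀ + d ≤ b → ∀ x, σH d b x = 0 → x = 0 := by
    intro d b hd hb
    induction b, hb using Nat.le_induction with
    | base => exact hdiag d hd
    | succ b hb ih =>
      intro x hx
      refine hpinj d b (by omega) ((ih _ ?_).trans (map_zero _).symm)
      rw [← hcomm, hx, map_zero]
  refine ⟨d₀ + n + 1, fun e he u => ?_⟩
  obtain ⟨d, rfl⟩ : ∃ d, e = d + 1 := ⟨e - 1, by omega⟩
  obtain ⟨x, hx⟩ := surjective_app_top A (seq_shortExact hL hs (hT d) (m₀ + d))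
    ((injective_iff_map_eq_zero _).2 (hσinj d (m₀ + d) (by omega) le_rfl)) u
  obtain ⟨v, hv, hv₀⟩ := exists_family (m₀ + d + 1)
    (A := fun b => Γ((itT L (d + 1)).obj (P b), (⊤ : X.Opens)))
    (fun b => ((itT L (d + 1)).map (π b)).app ⊤) (fun b hb => by
      have := epi_π hs (hT (d + 1)) b
      exact surjective_app_top A (kernelSeq_shortExact ((itT L (d + 1)).map (π b)))
        fun y z _ => Subsingleton.elim (h := hK (d + 1) b (by omega)) y z) x
  refine ⟨v, hv, ?_⟩
  have key : ∀ b, ((itT L (d + 1)).map (top π b)).app ⊤ (v b) = v 0 := by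
    intro b
    induction b with
    | zero => rw [top, CategoryTheory.Functor.map_id]; rfl
    | succ b ih =>
      rw [top, Functor.map_comp]
      exact (congrArg (((itT L (d + 1)).map (top π b)).app ⊤) (hv b)).trans ih
  rw [← key (m₀ + d + 1), hv₀, itT_succ_map, ← top_map (itT L d)]
  exact hx

end

end Groth.LefAlg
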