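import Groth.Agent.LefAlg.Twist

/-!
# Charts of an effective Cartier divisor with its canonical section
-/

set_option autoImplicit false

universe u

open CategoryTheory CategoryTheory.Limits AlgebraicGeometry
open Groth.PicAux
open Groth.CohTwo.SheafHomIso (tF tF_map_tmulSec)

namespace Groth.LefAlg

variable {X : Scheme.{u}}

/-- An affine open on which `I` is generated by the nonzerodivisor `t`, `L` by `e`, and the section
`s` of `L` is `t • e`. -/
structure IsChart (I : X.IdealSheafData) (L : X.Modules) (s : Coh.structureModule X ⟶ L)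
    (V : X.affineOpens) (t : Γ(X, V.1)) (e : Γ(L, V.1)) : Prop where
  ideal_eq : I.ideal V = Ideal.span {t}
  gen : Gen L V.1 e
  nzd : Divisors.IsNzdSec t
  sec : s.app V.1 (oneSec X V.1) = t • e

/-- There are charts around every point. -/
def DivSec (I : X.IdealSheafData) (L : X.Modules) (s : Coh.structureModule X ⟶ L) : Prop :=
  ∀ (x : X) (O : X.Opens), x ∈ O →
    ∃ (V : X.affineOpens) (t : Γ(X, V.1)) (e : Γ(L, V.1)), x ∈ V.1 ∧ V.1 ≤ O ∧ IsChart I L s V t e

theorem IsChart.res {I : X.IdealSheafData} {L : X.Modules} {s : Coh.structureModule X ⟶ L}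
    {V : X.affineOpens} {t : Γ(X, V.1)} {e : Γ(L, V.1)} (hc : IsChart I L s V t e)
    {W : X.affineOpens} (h : W.1 ≤ V.1) :
    IsChart I L s W (resX X h t) (res L h e) where
  ideal_eq := by
    rw [← I.map_ideal (U := W) (V := V) h, hc.ideal_eq, Ideal.map_span, Set.image_singleton]
    rfl
  gen := hc.gen.res h
  nzd := hc.nzd.res h
  sec := by rw [← res_oneSec h, app_res, hc.sec, res_smul]

/-- The canonical section of the inverse of an effective Cartier ideal has charts. -/
theorem exists_divSec {I : X.IdealSheafData} (hI : BlowUp.IsEffCartierIdeal I) {L : X.Modules}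
    (h : ClSub.IsInverseOf L (ClSub.idealMod I)) :
    ∃ s : Coh.structureModule X ⟶ L, DivSec I L s := by
  obtain ⟨s, -, key⟩ := exists_section_zeroScheme_eq hI h
  refine ⟨s, fun x O hx => ?_⟩
  have hL : PicF.IsInvertible L :=
    isInvertible_of_isInverseOf (isInvertible_idealMod hI) (isInverseOf_symm h)
  obtain ⟨U, e, hxU, he⟩ := (isInvertible_iff_exists_gen _).1 hL x
  obtain ⟨W, hxW, hW, k, hk, hkn, hkI⟩ := exists_gen_idealMod hI x (O ⊓ U) ⟨hx, hxU⟩
  obtain ⟨v, hv, hs⟩ := key W.1 k _ hk (he.res (hW.trans inf_le_right))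
  refine ⟨W, v * OmegaSh.idealSect I W.1 k, _, hxW, hW.trans inf_le_left, ?_,
    he.res (hW.trans inf_le_right), fun y hy => ?_, hs⟩
  · rw [hkI, Ideal.span_singleton_mul_left_unit hv]
  · rw [map_mul]
    exact mul_mem (hv.map (X.presheaf.germ W.1 y hy).hom).mem_nonZeroDivisors (hkn y hy)

variable {L : X.Modules}

/-- On an open where `L` has the basis `e`, `p ↦ e ⊗ p` is bijective. -/
theorem twist_bijective {V : X.Opens} {e : Γ(L, V)} (he : Gen L V e) (P : X.Modules) {W : X.Opens}
    (h : W ≤ V) :
    Function.Bijective fun p : Γ(P, W) => tmulSec (res L h e) p := by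
  have hb : Basis' L V (fun _ : Fin 1 => e) := by
    intro U hU
    refine ⟨fun r r' hr => funext fun i => ?_, fun m => ?_⟩
    · obtain rfl : i = 0 := Subsingleton.elim _ _
      exact he.smul_inj hU (by simpa [Fin.sum_univ_one] using hr)
    · obtain ⟨r, hr⟩ := he.exists_coeff hU m
      exact ⟨fun _ => r, by simpa [Fin.sum_univ_one] using hr.symm⟩
  have e1 : (fun p : Γ(P, W) => tmulSec (res L h e) p) =
      (Groth.ProjFormula.tsum (fun _ : Fin 1 => e) h) ∘ (fun p _ => p) := by
    funext p
    simp [Groth.ProjFormula.tsum, Fin.sum_univ_one]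
  rw [e1]
  exact (Groth.ProjFormula.tsum_bijective hb h).comp
    ⟨fun p q hpq => congrFun hpq 0, fun g => ⟨g 0, funext fun i => by rw [Subsingleton.elim i 0]⟩⟩

end Groth.LefAlg
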