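import Groth.Agent.LefAlg.Algebra
import Groth.Agent.Limits.RelSpecColimit

/-!
# The levels of the algebraized scheme
-/

universe u

set_option autoImplicit false
set_option backward.isDefEq.respectTransparency false
set_option backward.defeqAttrib.useBackward true

open CategoryTheory AlgebraicGeometry Opposite TopologicalSpace
open Groth.LefSections (InPow pushO)
open Groth.Limits.RelSpecColimit (IsLift exists_isLift)

namespace Groth.LefAlg

local notation "ρ" => Groth.QCohMod.res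

variable {U : Scheme.{u}} {J : U.IdealSheafData} {E : U.Modules} {B : ℕ → Scheme.{u}}
  {q : ∀ n, B n ⟶ U} {g : ∀ n, E ⟶ pushO (q n)} (hF : Formal J E q g) [∀ n, IsAffineHom (q n)]

noncomputable section

theorem surjective_restrict_appTop {X Y : Scheme.{u}} (f : X ⟶ Y) (W : Y.Opens)
    (h : Function.Surjective (f.app W)) : Function.Surjective (f ∣_ W).appTop := by
  rw [Scheme.Hom.appTop, morphismRestrict_app]
  show Function.Surjective fun a => X.presheaf.map _ (f.app (W.ι ''ᵁ ⊤) a)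
  refine ((ConcreteCategory.bijective_of_isIso _).2).comp ?_
  have h' : ∀ W' : Y.Opens, W = W' → Function.Surjective (f.app W') := by rintro _ rfl; exact h
  exact h' _ (by simp)

/-- The reduction as a map of rings. -/
def Formal.toBRing (n : ℕ) (W : U.Opens) : hF.ringObj W ⟶ Γ(B n, q n ⁻¹ᵁ W) :=
  letI := hF.ringOn W
  CommRingCat.ofHom
    { toFun := toB (g n) W
      map_one' := by
        show toB (g n) W (ρ E le_top hF.one) = 1
        refine TopCat.Sheaf.eq_of_locally_eq' (B n).sheaf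
          (fun V : {V : U.affineOpens // V.1 ≤ W} => q n ⁻¹ᵁ V.1.1) _
          (fun V => homOfLE ((q n).preimage_mono V.2)) (fun x hx => ?_) _ _ fun V => ?_
        · obtain ⟨V, hxV, hVW⟩ := LefSections.exists_affine_le W (x := q n x) hx
          exact Opens.mem_iSup.2 ⟨⟨V, hVW⟩, hxV⟩
        · show (B n).presheaf.map (homOfLE ((q n).preimage_mono V.2)).op (toB (g n) W (ρ E le_top hF.one)) =
            (B n).presheaf.map (homOfLE ((q n).preimage_mono V.2)).op 1
          rw [← toB_res (g n) V.2, QCohMod.res_res, hF.one_spec, map_one]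
      map_mul' := fun x y => by
        show toB (g n) W (mulSec hF.mu W x y) = toB (g n) W x * toB (g n) W y
        refine TopCat.Sheaf.eq_of_locally_eq' (B n).sheaf
          (fun V : {V : U.affineOpens // V.1 ≤ W} => q n ⁻¹ᵁ V.1.1) _
          (fun V => homOfLE ((q n).preimage_mono V.2)) (fun x hx => ?_) _ _ fun V => ?_
        · obtain ⟨V, hxV, hVW⟩ := LefSections.exists_affine_le W (x := q n x) hx
          exact Opens.mem_iSup.2 ⟨⟨V, hVW⟩, hxV⟩
        · show (B n).presheaf.map (homOfLE ((q n).preimage_mono V.2)).op (toB (g n) W (mulSec hF.mu W x y)) =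
            (B n).presheaf.map (homOfLE ((q n).preimage_mono V.2)).op (toB (g n) W x * toB (g n) W y)
          rw [← toB_res (g n) V.2, ← mulSec_res, hF.mu_spec, map_mul, toB_res, toB_res]
      map_zero' := map_zero _
      map_add' := map_add _ }

theorem Formal.toBRing_str (n : ℕ) (W : U.Opens) : hF.strApp W ≫ hF.toBRing n W = (q n).app W := by
  refine CommRingCat.hom_ext (RingHom.ext fun r => ?_)
  show toB (g n) W (r • ρ E le_top hF.one) = (q n).app W r
  rw [toB_smul]
  exact (congrArg _ (map_one (hF.toBRing n W).hom)).trans (mul_one _)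

/-- The reduction as a map of algebras. -/
def Formal.toBHom (n : ℕ) : hF.alg ⟶ RelSpec.QCAlg.directImage (q n) where
  hom :=
    { app := fun W => hF.toBRing n W.unop
      naturality := fun W W' i => CommRingCat.hom_ext (RingHom.ext fun x => toB_res (g n) i.unop.le x) }
  comm := NatTrans.ext (funext fun W => hF.toBRing_str n W.unop)

/-- The map from the `n`-th level. -/
def Formal.bmap (n : ℕ) : B n ⟶ hF.scheme := (exists_isLift (q n) (hF.toBHom n)).choose

theorem Formal.bmap_isLift (n : ℕ) : IsLift (q n) (hF.toBHom n) (hF.bmap n) :=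
  (exists_isLift (q n) (hF.toBHom n)).choose_spec

@[reassoc]
theorem Formal.bmap_proj (n : ℕ) : hF.bmap n ≫ hF.proj = q n := (hF.bmap_isLift n).comp_π

theorem Formal.bmap_preimage (n : ℕ) (W : U.Opens) : q n ⁻¹ᵁ W ≤ hF.bmap n ⁻¹ᵁ (hF.proj ⁻¹ᵁ W) := by
  rw [← Scheme.Hom.comp_preimage, hF.bmap_proj]

theorem Formal.bmap_appLE (n : ℕ) (V : U.affineOpens) :
    (hF.bmap n).appLE (hF.proj ⁻¹ᵁ V.1) (q n ⁻¹ᵁ V.1) (hF.bmap_preimage n V.1) =
      CommRingCat.ofHom (hF.gamma V.1) ≫ hF.toBRing n V.1 := by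
  let P := q n ⁻¹ᵁ V.1
  let R := hF.alg.presheaf.obj (op V.1)
  let φ : R ⟶ Γ(B n, P) := (hF.toBHom n).hom.app (op V.1)
  have hl : P.ι ≫ hF.bmap n = (P.toSpecΓ ≫ Spec.map φ) ≫ hF.alg.ι V.1 V.2 := by
    rw [Category.assoc]; exact hF.bmap_isLift n V.1 V.2
  have key : ∀ (f f' : P.toScheme ⟶ hF.scheme), f = f' → ∀ e e',
      f.appLE (hF.proj ⁻¹ᵁ V.1) ⊤ e = f'.appLE (hF.proj ⁻¹ᵁ V.1) ⊤ e' := by
    rintro f f' rfl e e'; rfl
  have h1 := key _ _ hl
    (by rw [Scheme.Hom.comp_preimage]; intro x _; exact hF.bmap_preimage n V.1 x.2)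
    (by rw [Scheme.Hom.comp_preimage]; intro x _; exact hF.alg.top_le_preimage V.1 V.2 trivial)
  rw [← Scheme.Hom.appLE_comp_appLE (P.ι) (hF.bmap n) _ P ⊤ (hF.bmap_preimage n V.1) (fun x _ => x.2),
    ← Scheme.Hom.appLE_comp_appLE (P.toSpecΓ ≫ Spec.map φ) (hF.alg.ι V.1 V.2) _ ⊤ ⊤
      (hF.alg.top_le_preimage V.1 V.2) le_top] at h1
  have h2 : (P.toSpecΓ ≫ Spec.map φ).appLE ⊤ ⊤ le_top =
      (Scheme.ΓSpecIso R).hom ≫ φ ≫ P.topIso.inv := by
    simp [Scheme.Hom.appLE, Scheme.Opens.toSpecΓ_appTop, Scheme.ΓSpecIso_naturality_assoc]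
    erw [Category.comp_id]
  have h3 : P.ι.appLE P ⊤ (fun x _ => x.2) = P.topIso.inv := by
    simp [Scheme.Hom.appLE, Scheme.Opens.topIso]
    rw [← Functor.map_comp]
    rfl
  rw [h2, h3, ← Category.assoc (((hF.alg.ι V.1 V.2).appLE _ _ _)), ← Category.assoc, cancel_mono] at h1
  refine h1.trans ?_
  show hF.alg.gammaAff V.1 V.2 ≫ φ = _
  rw [← hF.alg.gammaMap_app]
  rfl

instance Formal.isAffineHom_bmap (n : ℕ) : IsAffineHom (hF.bmap n) := by
  have : IsAffineHom (hF.bmap n ≫ hF.proj) := by rw [hF.bmap_proj]; infer_instance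
  exact IsAffineHom.of_comp (hF.bmap n) hF.proj

theorem Formal.bmap_app_surjective (n : ℕ) (V : U.affineOpens) :
    Function.Surjective ((hF.bmap n).app (hF.proj ⁻¹ᵁ V.1)) := by
  intro y
  have hP : hF.bmap n ⁻¹ᵁ (hF.proj ⁻¹ᵁ V.1) = q n ⁻¹ᵁ V.1 := by
    rw [← Scheme.Hom.comp_preimage, hF.bmap_proj]
  let e := (B n).presheaf.map (eqToHom hP.symm).op
  obtain ⟨x, hx⟩ := hF.surj n V (e y)
  obtain ⟨a, ha⟩ := (hF.gamma_bijective V.1).2 x
  refine ⟨a, (ConcreteCategory.bijective_of_isIso e).1 ?_⟩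
  refine (congr($(hF.bmap_appLE n V) a)).trans ?_
  show toB (g n) V.1 (hF.gamma V.1 a) = e y
  rw [ha, hx]

instance Formal.isClosedImmersion_bmap (n : ℕ) : IsClosedImmersion (hF.bmap n) := by
  refine (HasAffineProperty.iff_of_iSup_eq_top (P := @IsClosedImmersion)
    (fun V : U.affineOpens => ⟨hF.proj ⁻¹ᵁ V.1, V.2.preimage hF.proj⟩)
    (top_le_iff.1 fun x _ => ?_)).2 fun V => ⟨(V.2.preimage hF.proj).preimage (hF.bmap n), ?_⟩
  · obtain ⟨V, hV, -⟩ := LefSections.exists_affine_le (⊤ : U.Opens) (x := hF.proj x) trivial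
    exact Opens.mem_iSup.2 ⟨V, hV⟩
  · exact surjective_restrict_appTop (hF.bmap n) _ (hF.bmap_app_surjective n V)

theorem Formal.ker_bmap (n : ℕ) : (hF.bmap n).ker = (J.comap hF.proj) ^ (n + 1) := by
  refine Scheme.IdealSheafData.ext_of_iSup_eq_top
    (fun V : U.affineOpens => ⟨hF.proj ⁻¹ᵁ V.1, V.2.preimage hF.proj⟩) (top_le_iff.1 fun x _ => ?_) fun V => ?_
  · obtain ⟨V, hV, -⟩ := LefSections.exists_affine_le (⊤ : U.Opens) (x := hF.proj x) trivial
    exact Opens.mem_iSup.2 ⟨V, hV⟩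
  · have hP : hF.bmap n ⁻¹ᵁ (hF.proj ⁻¹ᵁ V.1) = q n ⁻¹ᵁ V.1 := by
      rw [← Scheme.Hom.comp_preimage, hF.bmap_proj]
    rw [Scheme.Hom.ker_apply, Scheme.IdealSheafData.ideal_pow, Pi.pow_apply,
      Groth.BlowUpBasics.ideal_comap hF.proj J V ⟨_, V.2.preimage hF.proj⟩ le_rfl, Scheme.Hom.appLE_eq_app,
      ← Ideal.map_pow]
    refine Ideal.ext fun a => ?_
    rw [RingHom.mem_ker]
    let γ := RingEquiv.ofBijective (hF.gamma V.1) (hF.gamma_bijective V.1)
    let e : Γ(E, V.1) ≃+ Γ(hF.scheme, hF.proj ⁻¹ᵁ V.1) :=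
      { toFun := fun x => γ.symm x, invFun := fun a => γ a
        left_inv := fun x => γ.apply_symm_apply x, right_inv := fun a => γ.symm_apply_apply a
        map_add' := fun x y => map_add γ.symm x y }
    have he : ∀ (r : Γ(U, V.1)) (m : Γ(E, V.1)), e (r • m) = hF.proj.app V.1 r * e m := fun r m => by
      refine (hF.gamma_bijective V.1).1 ?_
      rw [map_mul, hF.gamma_app]
      refine (γ.apply_symm_apply (show hF.ringObj V.1 from r • m)).trans ?_
      rw [show hF.gamma V.1 (e m) = (show hF.ringObj V.1 from m) from γ.apply_symm_apply (show hF.ringObj V.1 from m)]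
      exact (hF.strApp_mul V.1 r m).symm
    have h := LefSections.mem_smul_top_iff_map (hF.proj.app V.1).hom (J.ideal V ^ (n + 1)) e he (hF.gamma V.1 a)
    rw [show e (hF.gamma V.1 a) = a from RingEquiv.symm_apply_apply
      (RingEquiv.ofBijective (hF.gamma V.1) (hF.gamma_bijective V.1)) a] at h
    refine Iff.trans ?_ h
    refine Iff.trans ?_ (hF.ker n V _)
    have h2 : toB (g n) V.1 (hF.gamma V.1 a) =
        (B n).presheaf.map (eqToHom hP.symm).op ((hF.bmap n).app (hF.proj ⁻¹ᵁ V.1) a) :=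
      (congr($(hF.bmap_appLE n V) a)).symm
    rw [h2]
    exact ⟨fun hz => by rw [hz, map_zero], fun hz =>
      (ConcreteCategory.bijective_of_isIso ((B n).presheaf.map (eqToHom hP.symm).op)).1 (by rw [hz, map_zero])⟩

end

end Groth.LefAlg
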