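import Groth.Agent.LefSections.Covers
import Mathlib.AlgebraicGeometry.Morphisms.FlatRank
import Mathlib.AlgebraicGeometry.Morphisms.Etale

/-!
# A finite flat cover which is etale over `V(J)` is etale when formal sections are sections
-/

universe u

set_option autoImplicit false
set_option backward.isDefEq.respectTransparency false
set_option maxHeartbeats 800000

open CategoryTheory CategoryTheory.Limits AlgebraicGeometry TopologicalSpace
open Groth.CohTwo.LocFreeDual (dual)
open Groth.LefSections (pushO)

namespace Groth.LefAlg

variable {U A Y : Scheme.{u}}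

/-- The diagonal of a finite flat morphism is clopen, hence the morphism is etale, if this is so over
`V(J)` and the formal sections of finite locally free modules are sections. -/
theorem etale_of_formal (J : U.IdealSheafData)
    (H : ∀ D : U.Modules, FlatMod.IsFinLocFree D → Lef.HomToFormalBijective J D)
    (p : A ⟶ U) [IsFinite p] [Flat p] [LocallyOfFinitePresentation p] (i : Y ⟶ U) [IsClosedImmersion i]
    (hi : Set.range i = (J.support : Set U)) (h0 : Etale (pullback.snd p i)) : Etale p := by
  have hD : ∀ {B : Scheme.{u}} (q : B ⟶ U) [IsFinite q] [Flat q] [LocallyOfFinitePresentation q],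
      Lef.HomToFormalBijective J (dual (pushO q)) := fun q _ _ _ =>
    H _ (LocFree.isFinLocFree_homSh (Groth.RefRank.push_isFinLocFree q) (LocFree.isFinLocFree_unit U))
  have hinj : ∀ C : Set ↥A, IsClopen C → Set.range (pullback.fst p i) ⊆ C → C = Set.univ := fun C hC hsub =>
    LefSections.eq_univ_of_range_subset J p (hD p) C hC (by
      rw [Scheme.Pullback.range_fst, hi] at hsub; exact hsub)
  let q := pullback.fst p p ≫ p
  let W₀ := pullback q i
  let wA : W₀ ⟶ pullback p i := pullback.lift (pullback.fst q i ≫ pullback.fst p p) (pullback.snd q i)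
    (by rw [Category.assoc]; exact pullback.condition)
  have hw₁ : wA ≫ pullback.fst p i = pullback.fst q i ≫ pullback.fst p p := pullback.lift_fst _ _ _
  have sq : IsPullback wA (pullback.fst q i) (pullback.fst p i) (pullback.fst p p) := by
    refine (IsPullback.of_bot ?_ hw₁.symm (IsPullback.of_hasPullback p i)).flip
    rw [pullback.lift_snd]
    exact IsPullback.of_hasPullback q i
  have : Etale wA := by
    have big : IsPullback (pullback.fst q i ≫ pullback.snd p p) wA p (pullback.fst p i ≫ p) :=
      sq.flip.paste_horiz (IsPullback.of_hasPullback p p).flip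
    let l : W₀ ⟶ pullback p i := pullback.lift (pullback.fst q i ≫ pullback.snd p p)
      (wA ≫ pullback.snd p i) (by rw [big.w, Category.assoc, pullback.condition])
    have h2 : IsPullback l wA (pullback.snd p i) (pullback.snd p i) := by
      refine IsPullback.of_right ?_ (pullback.lift_snd _ _ _) (IsPullback.of_hasPullback p i)
      rw [pullback.lift_fst]
      rw [pullback.condition] at big
      exact big
    exact MorphismProperty.of_isPullback h2 h0
  have : IsFinite wA := MorphismProperty.of_isPullback sq.flip (inferInstance : IsFinite (pullback.fst p p))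
  let t : pullback p i ⟶ W₀ := pullback.lift (pullback.fst p i ≫ pullback.diagonal p) (pullback.snd p i)
    (by simp only [q, Category.assoc, pullback.diagonal_fst_assoc]; exact pullback.condition)
  have ht : t ≫ wA = 𝟙 _ := by
    apply pullback.hom_ext
    · rw [Category.assoc, hw₁, pullback.lift_fst_assoc, Category.assoc, pullback.diagonal_fst, Category.comp_id,
        Category.id_comp]
    · simp only [t, wA, Category.assoc, pullback.lift_snd, Category.id_comp]
  haveI : IsFinite (t ≫ wA) := by rw [ht]; infer_instance
  haveI : Etale (t ≫ wA) := by rw [ht]; infer_instance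
  haveI : IsFinite t := IsFinite.of_comp t wA
  haveI : Etale t := Etale.of_comp t wA
  haveI : Mono (t ≫ wA) := by rw [ht]; infer_instance
  haveI : Mono t := mono_of_mono t wA
  haveI : IsOpenImmersion t := IsOpenImmersion.of_flat_of_mono t
  let e := pullback.fst q i
  have he : Function.Injective e := e.isClosedEmbedding.injective
  obtain ⟨C, hC, hmem⟩ := LefSections.exists_clopen J q (hD q) (e '' Set.range t) (e '' (Set.range t)ᶜ)
    (e.isClosedMap _ t.isClosedMap.isClosed_range) (e.isClosedMap _ t.isOpenMap.isOpen_range.isClosed_compl)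
    ((Set.disjoint_image_iff he).2 disjoint_compl_right)
    (by rw [← Set.image_union, Set.union_compl_self, Set.image_univ, Scheme.Pullback.range_fst, hi])
  have hC₀ : e ⁻¹' C = Set.range t := Set.ext fun z => (hmem (e z) (by
    have : e z ∈ Set.range e := ⟨z, rfl⟩
    rw [Scheme.Pullback.range_fst, hi] at this; exact this)).trans he.mem_set_image
  let Γ : (pullback p p).Opens := ⟨C, hC.2⟩
  haveI : IsClosedImmersion Γ.ι := IsClosedImmersion.of_isPreimmersion _
    (by rw [Scheme.Opens.range_ι]; exact hC.1)
  let r := Γ.ι ≫ pullback.fst p p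
  let t' : pullback p i ⟶ Γ.toScheme := IsOpenImmersion.lift Γ.ι (t ≫ e) (by
    rw [Scheme.Opens.range_ι]
    rintro _ ⟨a, rfl⟩
    have ha : t a ∈ e ⁻¹' C := hC₀.symm ▸ ⟨a, rfl⟩
    exact ha)
  have ht' : t' ≫ Γ.ι = t ≫ e := IsOpenImmersion.lift_fac _ _ _
  have sqt : IsPullback t' t Γ.ι e :=
    IsOpenImmersion.isPullback _ _ _ _ ht'.symm (by
      apply Opens.ext
      rw [Scheme.Opens.opensRange_ι]
      exact hC₀)
  have sqr : IsPullback t' (𝟙 _) r (pullback.fst p i) := by
    have := sqt.paste_vert sq.flip
    rwa [ht] at this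
  have hdeg : ∀ a, r.finrank a = 1 := by
    have hloc : IsClopen {a | r.finrank a = 1} :=
      ((Scheme.Hom.isLocallyConstant_finrank r).isClopen_fiber 1)
    intro a
    have := hinj _ hloc (by
      rintro _ ⟨a₀, rfl⟩
      change r.finrank _ = 1
      rw [← Scheme.Hom.finrank_of_isPullback _ _ _ _ sqr a₀]
      exact congrFun ((Scheme.Hom.isIso_iff_finrank_eq _).1 inferInstance) a₀)
    exact Set.eq_univ_iff_forall.1 this a
  haveI : IsIso r := (Scheme.Hom.isIso_iff_finrank_eq r).2 (funext hdeg)
  have hΔ : (pullback.diagonal p) ⁻¹' C = Set.univ := by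
    refine hinj _ (hC.preimage (pullback.diagonal p).continuous) ?_
    rintro _ ⟨a, rfl⟩
    have ha : t a ∈ e ⁻¹' C := hC₀.symm ▸ ⟨a, rfl⟩
    show (pullback.fst p i ≫ pullback.diagonal p) a ∈ C
    rw [← pullback.lift_fst (f := q) (g := i) (pullback.fst p i ≫ pullback.diagonal p) (pullback.snd p i)
      (by simp only [q, Category.assoc, pullback.diagonal_fst_assoc]; exact pullback.condition)]
    exact ha
  let d : A ⟶ Γ.toScheme := IsOpenImmersion.lift Γ.ι (pullback.diagonal p) (by
    rw [Scheme.Opens.range_ι]
    rintro _ ⟨a, rfl⟩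
    exact (Set.eq_univ_iff_forall.1 hΔ a : _))
  have hd : d ≫ Γ.ι = pullback.diagonal p := IsOpenImmersion.lift_fac _ _ _
  have hdr : d ≫ r = 𝟙 A := by simp only [r, reassoc_of% hd, pullback.diagonal_fst]
  have : IsIso (d ≫ r) := by rw [hdr]; infer_instance
  have : IsIso d := IsIso.of_isIso_comp_right d r
  have : IsOpenImmersion (pullback.diagonal p) := by rw [← hd]; infer_instance
  exact Etale.of_formallyUnramified_of_flat p

end Groth.LefAlg
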