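import Groth.Agent.Pi1Purity.Extend
import Groth.Agent.Pi1Inv.Thickening
import Groth.Agent.LefVanish.Reduce
import Mathlib.AlgebraicGeometry.RelativeGluing
import Mathlib.AlgebraicGeometry.Cover.Directed

/-!
# Extending finite etale covers from a neighbourhood of a closed subscheme by purity
-/

universe u

set_option autoImplicit false
set_option backward.isDefEq.respectTransparency false
set_option backward.defeqAttrib.useBackward true

open CategoryTheory CategoryTheory.Limits AlgebraicGeometry TopologicalSpace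

namespace Groth.LefAlg

variable {X : Scheme.{u}}

/-- If restrictions to `V(I)` are fully faithful so are restrictions between neighbourhoods of it. -/
theorem restrict_homOfLE_fullyFaithful (I : X.IdealSheafData)
    (hff : ∀ K : X.Opens, (I.support : Set X) ⊆ K →
      (FEt.restrict (I.comap K.ι).subschemeι).Full ∧ (FEt.restrict (I.comap K.ι).subschemeι).Faithful)
    {U K : X.Opens} (hU : (I.support : Set X) ⊆ U) (h : U ≤ K) :
    (FEt.restrict (X.homOfLE h)).Full ∧ (FEt.restrict (X.homOfLE h)).Faithful := by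
  have key : ∀ (W : X.Opens), (I.support : Set X) ⊆ W → ∃ iW : I.subscheme ⟶ (W : Scheme.{u}),
      iW ≫ W.ι = I.subschemeι ∧ (FEt.restrict iW).Full ∧ (FEt.restrict iW).Faithful := fun W hW => by
    obtain ⟨d, hd, hdf⟩ := LefVanish.exists_iso_of_support_le W (K := I) (K' := I.comap W.ι) hW rfl
    obtain ⟨_, _⟩ := hff W hW
    have := Pi1Inv.isEquivalence_of_thickening d
    refine ⟨d ≫ (I.comap W.ι).subschemeι, by rw [Category.assoc, hdf], ?_⟩
    let e : FEt.restrict (d ≫ (I.comap W.ι).subschemeι) ≅ FEt.restrict (I.comap W.ι).subschemeι ⋙ FEt.restrict d :=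
      MorphismProperty.Over.pullbackComp d _
    exact ⟨Functor.Full.of_iso e.symm, Functor.Faithful.of_iso e.symm⟩
  obtain ⟨iU, hiU, _, _⟩ := key U hU
  obtain ⟨iK, hiK, _, _⟩ := key K (hU.trans h)
  have he : iK = iU ≫ X.homOfLE h := by
    rw [← cancel_mono K.ι, hiK, Category.assoc, Scheme.homOfLE_ι, hiU]
  let e : FEt.restrict iK ≅ FEt.restrict (X.homOfLE h) ⋙ FEt.restrict iU :=
    MorphismProperty.Over.pullbackComp iU (X.homOfLE h) iK he
  exact ⟨Functor.Full.of_comp_faithful_iso e.symm, Functor.Faithful.of_comp_iso e.symm⟩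

/-- An extension of a cover to a larger open. -/
structure ExtTo {U : X.Opens} (R : FEt.Cat (U : Scheme.{u})) (K : X.Opens) where
  le : U ≤ K
  T : FEt.Cat (K : Scheme.{u})
  γ : R.left ⟶ T.left
  pb : IsPullback γ R.hom T.hom (X.homOfLE le)

variable {U : X.Opens} {R : FEt.Cat (U : Scheme.{u})}
  (hFF : ∀ {K : X.Opens} (h : U ≤ K), (FEt.restrict (X.homOfLE h)).Full ∧ (FEt.restrict (X.homOfLE h)).Faithful)

include hFF in
theorem existsUnique_trans {K L : X.Opens} (P : ExtTo R K) (Q : ExtTo R L) (h : K ≤ L) :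
    ∃! φ : P.T.left ⟶ Q.T.left, φ ≫ Q.T.hom = P.T.hom ≫ X.homOfLE h ∧ P.γ ≫ φ = Q.γ := by
  obtain ⟨_, _⟩ := hFF P.le
  let j := X.homOfLE P.le
  let B : FEt.Cat (K : Scheme.{u}) := (FEt.restrict (X.homOfLE h)).obj Q.T
  have hw : Q.γ ≫ Q.T.hom = (R.hom ≫ j) ≫ X.homOfLE h := by
    rw [Q.pb.w, Category.assoc, Scheme.homOfLE_homOfLE]
  let δ : R.left ⟶ B.left := pullback.lift Q.γ (R.hom ≫ j) hw
  let g : (FEt.restrict j).obj P.T ⟶ (FEt.restrict j).obj B :=
    MorphismProperty.Over.homMk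
      (pullback.lift (P.pb.isoPullback.inv ≫ δ) (pullback.snd P.T.hom j) (by
        show (P.pb.isoPullback.inv ≫ δ) ≫ pullback.snd Q.T.hom (X.homOfLE h) = pullback.snd P.T.hom j ≫ j
        rw [Category.assoc, pullback.lift_snd, ← Category.assoc, P.pb.isoPullback_inv_snd]))
      (pullback.lift_snd _ _ _)
  obtain ⟨φ, hφ⟩ := (FEt.restrict j).map_surjective g
  have hφ' : pullback.fst P.T.hom j ≫ φ.left = P.pb.isoPullback.inv ≫ δ := by
    have := congrArg (fun a => a.left ≫ pullback.fst B.hom j) hφ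
    exact (pullback.lift_fst _ _ _).symm.trans (this.trans (pullback.lift_fst _ _ _))
  have hw' : φ.left ≫ pullback.snd Q.T.hom (X.homOfLE h) = P.T.hom := MorphismProperty.Over.w φ
  refine ⟨φ.left ≫ pullback.fst Q.T.hom (X.homOfLE h), ⟨?_, ?_⟩, fun ψ hψ => ?_⟩
  · rw [Category.assoc, pullback.condition]
    exact (Category.assoc _ _ _).symm.trans (congrArg (· ≫ X.homOfLE h) hw')
  · have e : P.γ = P.pb.isoPullback.hom ≫ pullback.fst P.T.hom j := P.pb.isoPullback_hom_fst.symm
    rw [e, Category.assoc]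
    erw [reassoc_of% hφ']
    rw [Iso.hom_inv_id_assoc]
    exact pullback.lift_fst _ _ _
  · let ψ' : P.T ⟶ B := MorphismProperty.Over.homMk (pullback.lift ψ P.T.hom hψ.1) (pullback.lift_snd _ _ _)
    have : ψ' = φ := by
      apply (FEt.restrict j).map_injective
      rw [hφ]
      refine MorphismProperty.Over.Hom.ext (pullback.hom_ext ?_ ?_)
      · show pullback.lift (pullback.fst P.T.hom j ≫ ψ'.left) _ _ ≫ pullback.fst B.hom j = _ ≫ pullback.fst B.hom j
        rw [pullback.lift_fst]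
        refine Eq.trans ?_ (pullback.lift_fst _ _ _).symm
        refine pullback.hom_ext ?_ ?_
        · show (pullback.fst P.T.hom j ≫ pullback.lift ψ P.T.hom hψ.1) ≫ pullback.fst _ _ = _
          rw [Category.assoc, pullback.lift_fst, Category.assoc, pullback.lift_fst,
            ← P.pb.isoPullback_inv_fst, Category.assoc, hψ.2]
        · show (pullback.fst P.T.hom j ≫ pullback.lift ψ P.T.hom hψ.1) ≫ pullback.snd _ _ = _
          rw [Category.assoc, pullback.lift_snd, Category.assoc, pullback.lift_snd, pullback.condition,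
            ← Category.assoc]
          erw [P.pb.isoPullback_inv_snd]
      · show pullback.lift _ (pullback.snd P.T.hom j) _ ≫ pullback.snd B.hom j = _ ≫ pullback.snd B.hom j
        rw [pullback.lift_snd]
        exact (pullback.lift_snd _ _ _).symm
    rw [← this]
    exact (pullback.lift_fst _ _ _).symm

/-- The transition map. -/
noncomputable def trans {K L : X.Opens} (P : ExtTo R K) (Q : ExtTo R L) (h : K ≤ L) : P.T.left ⟶ Q.T.left :=
  (existsUnique_trans hFF P Q h).exists.choose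

@[reassoc]
theorem trans_hom {K L : X.Opens} (P : ExtTo R K) (Q : ExtTo R L) (h : K ≤ L) :
    trans hFF P Q h ≫ Q.T.hom = P.T.hom ≫ X.homOfLE h :=
  (existsUnique_trans hFF P Q h).exists.choose_spec.1

@[reassoc]
theorem γ_trans {K L : X.Opens} (P : ExtTo R K) (Q : ExtTo R L) (h : K ≤ L) :
    P.γ ≫ trans hFF P Q h = Q.γ :=
  (existsUnique_trans hFF P Q h).exists.choose_spec.2

theorem trans_unique {K L : X.Opens} (P : ExtTo R K) (Q : ExtTo R L) (h : K ≤ L) {φ : P.T.left ⟶ Q.T.left}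
    (h₁ : φ ≫ Q.T.hom = P.T.hom ≫ X.homOfLE h) (h₂ : P.γ ≫ φ = Q.γ) : φ = trans hFF P Q h :=
  (existsUnique_trans hFF P Q h).unique ⟨h₁, h₂⟩ ⟨trans_hom hFF P Q h, γ_trans hFF P Q h⟩

theorem trans_self {K : X.Opens} (P : ExtTo R K) : trans hFF P P le_rfl = 𝟙 P.T.left :=
  (trans_unique hFF P P le_rfl (by simp) (by simp)).symm

theorem trans_trans {K L M : X.Opens} (P : ExtTo R K) (Q : ExtTo R L) (S : ExtTo R M) (h : K ≤ L) (h' : L ≤ M) :
    trans hFF P Q h ≫ trans hFF Q S h' = trans hFF P S (h.trans h') :=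
  trans_unique hFF P S (h.trans h') (by simp [trans_hom, trans_hom_assoc])
    (by rw [γ_trans_assoc, γ_trans])

/-- Restriction of an extension. -/
noncomputable def ExtTo.down {K L : X.Opens} (Q : ExtTo R L) (hK : U ≤ K) (h : K ≤ L) : ExtTo R K where
  le := hK
  T := (FEt.restrict (X.homOfLE h)).obj Q.T
  γ := pullback.lift Q.γ (R.hom ≫ X.homOfLE hK) (by rw [Q.pb.w, Category.assoc, Scheme.homOfLE_homOfLE])
  pb := IsPullback.of_right (by
      show IsPullback (pullback.lift _ _ _ ≫ pullback.fst Q.T.hom (X.homOfLE h)) R.hom Q.T.hom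
        (X.homOfLE hK ≫ X.homOfLE h)
      rw [pullback.lift_fst, Scheme.homOfLE_homOfLE]
      exact Q.pb)
    (pullback.lift_snd _ _ _) (IsPullback.of_hasPullback Q.T.hom (X.homOfLE h))

theorem isPullback_trans {K L : X.Opens} (P : ExtTo R K) (Q : ExtTo R L) (h : K ≤ L) :
    IsPullback P.T.hom (trans hFF P Q h) (X.homOfLE h) Q.T.hom := by
  let P' := Q.down P.le h
  let a := trans hFF P P' le_rfl
  let b := trans hFF P' P le_rfl
  have hab : a ≫ b = 𝟙 _ := (trans_trans hFF P P' P le_rfl le_rfl).trans (trans_self hFF P)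
  have hba : b ≫ a = 𝟙 _ := (trans_trans hFF P' P P' le_rfl le_rfl).trans (trans_self hFF P')
  have hq : trans hFF P' Q h = pullback.fst Q.T.hom (X.homOfLE h) :=
    (trans_unique hFF P' Q h pullback.condition (pullback.lift_fst _ _ _)).symm
  have hfst : a ≫ pullback.fst Q.T.hom (X.homOfLE h) = trans hFF P Q h := by
    rw [← hq]; exact trans_trans hFF P P' Q le_rfl h
  have hsnd : a ≫ pullback.snd Q.T.hom (X.homOfLE h) = P.T.hom := by
    have := trans_hom hFF P P' le_rfl
    rw [Scheme.homOfLE_rfl] at this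
    exact this.trans (Category.comp_id _)
  exact (IsPullback.of_iso_pullback ⟨(trans_hom hFF P Q h)⟩ (⟨a, b, hab, hba⟩ : P.T.left ≅ P'.T.left)
    hfst hsnd).flip

/-- The cover of `X` by the opens `U ⊔ V`, `V` affine. -/
noncomputable def supCover (U : X.Opens) : X.OpenCover where
  I₀ := X.affineOpens
  X V := (U ⊔ V.1 : X.Opens)
  f V := (U ⊔ V.1 : X.Opens).ι
  mem₀ := by
    rw [Scheme.presieve₀_mem_precoverage_iff]
    refine ⟨fun x => ?_, inferInstance⟩
    obtain ⟨_, ⟨V, hV, rfl⟩, hxV, -⟩ := X.isBasis_affineOpens.exists_subset_of_mem_open (Set.mem_univ x) isOpen_univ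
    exact ⟨⟨V, hV⟩, ⟨x, Or.inr hxV⟩, rfl⟩

instance : Preorder (supCover U).I₀ := inferInstanceAs <| Preorder X.affineOpens

instance : Quiver.IsThin (supCover U).I₀ := inferInstanceAs (Quiver.IsThin X.affineOpens)

instance : Small.{u} (supCover U).I₀ := inferInstanceAs (Small.{u} X.affineOpens)

theorem sup_le_of_hom {i j : (supCover U).I₀} (h : i ⟶ j) : U ⊔ i.1 ≤ U ⊔ j.1 :=
  sup_le_sup_left (leOfHom h : i ≤ j) U

noncomputable instance : Scheme.Cover.LocallyDirected (supCover U) where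
  trans h := X.homOfLE (sup_le_of_hom h)
  trans_id i := by simp [supCover]
  trans_comp f g := by simp [supCover]
  w h := X.homOfLE_ι _
  directed := by
    intro i j x
    let a : ((U ⊔ i.1 : X.Opens) : Scheme.{u}) := pullback.fst ((supCover U).f i) ((supCover U).f j) x
    let b : ((U ⊔ j.1 : X.Opens) : Scheme.{u}) := pullback.snd ((supCover U).f i) ((supCover U).f j) x
    have hab : a.1 = b.1 := congrArg (fun f => f x) (pullback.condition (f := (supCover U).f i) (g := (supCover U).f j))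
    have hk : ∃ k : X.affineOpens, k.1 ≤ i.1 ∧ k.1 ≤ j.1 ∧ a.1 ∈ U ⊔ k.1 := by
      by_cases hp : a.1 ∈ U
      · exact ⟨⟨⊥, isAffineOpen_bot X⟩, bot_le, bot_le, Or.inl hp⟩
      · have hi : a.1 ∈ i.1 := a.2.resolve_left hp
        have hj : a.1 ∈ j.1 := by
          rw [hab] at hp ⊢
          exact b.2.resolve_left hp
        obtain ⟨_, ⟨K, hK, rfl⟩, hpK, hKle⟩ := X.isBasis_affineOpens.exists_subset_of_mem_open
          (show a.1 ∈ (i.1 ⊓ j.1 : X.Opens) from ⟨hi, hj⟩) (i.1 ⊓ j.1).2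
        exact ⟨⟨K, hK⟩, fun y hy => (hKle hy).1, fun y hy => (hKle hy).2, Or.inr hpK⟩
    obtain ⟨k, hki, hkj, hak⟩ := hk
    refine ⟨k, homOfLE hki, homOfLE hkj, ⟨a.1, hak⟩, ?_⟩
    refine (pullback.fst ((supCover U).f i) ((supCover U).f j)).isOpenEmbedding.injective ?_
    rw [← Scheme.Hom.comp_apply, pullback.lift_fst]
    exact Subtype.ext (congrArg (fun f => f (⟨a.1, hak⟩ : ((U ⊔ k.1 : X.Opens) : Scheme.{u})))
      (X.homOfLE_ι (sup_le_sup_left hki U)))
  property_trans _ := inferInstance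

/-- The gluing datum of extensions over all `U ⊔ V`. -/
noncomputable def supGlue (P : ∀ V : X.affineOpens, ExtTo R (U ⊔ V.1)) :
    Scheme.Cover.RelativeGluingData (supCover U) where
  functor :=
    { obj := fun V => (P V).T.left
      map := fun {V W} h => trans hFF (P V) (P W) (sup_le_of_hom h)
      map_id := fun V => trans_self hFF (P V)
      map_comp := fun {_ V W} h h' =>
        (trans_trans hFF (P _) (P V) (P W) (sup_le_of_hom h) (sup_le_of_hom h')).symm }
  natTrans :=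
    { app := fun V => (P V).T.hom
      naturality := fun {V W} h => trans_hom hFF (P V) (P W) (sup_le_of_hom h) }
  equifibered := fun {V W} h => (isPullback_trans hFF (P V) (P W) (sup_le_of_hom h)).flip

include hFF in
/-- Extensions over all `U ⊔ V` glue to the whole scheme. -/
theorem exists_glue_sup (hP : ∀ V : X.affineOpens, Nonempty (ExtTo R (U ⊔ V.1))) :
    ∃ (A : FEt.Cat X) (γ : R.left ⟶ A.left), IsPullback γ R.hom A.hom U.ι := by
  let P := fun V => (hP V).some
  let d := supGlue hFF P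
  have hA : ∀ V : (supCover U).I₀,
      IsPullback (P V).T.hom (colimit.ι (supGlue hFF P).functor V) (U ⊔ V.1 : X.Opens).ι (supGlue hFF P).toBase :=
    fun V => (supGlue hFF P).isPullback_natTrans_ι_toBase V
  have hloc : ∀ (Q : MorphismProperty Scheme.{u}) [IsZariskiLocalAtTarget Q] [Q.RespectsIso],
      (∀ V, Q (P V).T.hom) → Q (supGlue hFF P).toBase := fun Q _ _ hQ => by
    refine (IsZariskiLocalAtTarget.iff_of_openCover (P := Q) (supCover U)).2 fun V => ?_
    exact (Q.cancel_left_of_respectsIso (hA V).flip.isoPullback.hom _).1 (by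
      erw [(hA V).flip.isoPullback_hom_snd]; exact hQ V)
  refine ⟨MorphismProperty.Over.mk ⊤ (supGlue hFF P).toBase
    ⟨hloc @IsFinite fun V => (P V).T.prop.1, hloc @Etale fun V => (P V).T.prop.2⟩,
    (P ⟨⊥, isAffineOpen_bot X⟩).γ ≫ colimit.ι (supGlue hFF P).functor ⟨⊥, isAffineOpen_bot X⟩, ?_⟩
  have := ((P ⟨⊥, isAffineOpen_bot X⟩).pb).paste_horiz (hA ⟨⊥, isAffineOpen_bot X⟩).flip
  rw [Scheme.homOfLE_ι] at this
  exact this

/-- Purity on an affine open gives the extension. -/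
theorem nonempty_extTo_sup [IsLocallyNoetherian X] (V : X.affineOpens)
    (h : ∀ x : (V.1 : Scheme.{u}), x.1 ∉ U → FEt.PurityHolds ((V.1 : Scheme.{u}).presheaf.stalk x)) :
    Nonempty (ExtTo R (U ⊔ V.1)) := by
  have : IsAffine (V.1 : Scheme.{u}) := V.2
  have : CompactSpace (V.1 : Scheme.{u}) := inferInstance
  have : IsLocallyNoetherian (V.1 : Scheme.{u}) := isLocallyNoetherian_of_isOpenImmersion V.1.ι
  have : IsNoetherian (V.1 : Scheme.{u}) := {}
  let o₁ : ((V.1.ι ⁻¹ᵁ U : (V.1 : Scheme.{u}).Opens) : Scheme.{u}) ⟶ U := V.1.ι ∣_ U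
  let RV := (FEt.restrict o₁).obj R
  have := Pi1Purity.restrict_essSurj_of_purity (V.1.ι ⁻¹ᵁ U) fun x hx => h x hx
  let Z := (FEt.restrict (V.1.ι ⁻¹ᵁ U).ι).objPreimage RV
  let e := (FEt.restrict (V.1.ι ⁻¹ᵁ U).ι).objObjPreimageIso RV
  let eL : pullback Z.hom (V.1.ι ⁻¹ᵁ U).ι ≅ pullback R.hom o₁ :=
    (MorphismProperty.Over.forget _ _ _ ⋙ Over.forget _).mapIso e
  have heL : eL.hom ≫ pullback.snd R.hom o₁ = pullback.snd Z.hom _ := MorphismProperty.Over.w e.hom
  have hg₂ : IsPullback (eL.inv ≫ pullback.fst Z.hom _) (pullback.snd R.hom o₁) Z.hom (V.1.ι ⁻¹ᵁ U).ι :=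
    (IsPullback.of_hasPullback Z.hom (V.1.ι ⁻¹ᵁ U).ι).of_iso eL (Iso.refl _) (Iso.refl _) (Iso.refl _)
      (by simp) (by simp [heL]) (by simp) (by simp)
  obtain ⟨T, t, ht, γ, hγ⟩ := Pi1Purity.exists_glue_cover o₁ (V.1.ι ⁻¹ᵁ U).ι
    (isPullback_morphismRestrict V.1.ι U) R.hom R.prop Z.hom Z.prop
    (pullback.snd R.hom o₁) (pullback.fst R.hom o₁) (eL.inv ≫ pullback.fst Z.hom _)
    (IsPullback.of_hasPullback R.hom o₁) hg₂
  exact ⟨⟨le_sup_left, MorphismProperty.Over.mk ⊤ t ht, γ, hγ⟩⟩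

end Groth.LefAlg
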