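import Groth.Agent.LefAlg.Algebraise
import Groth.Agent.LefVanish.Ample

/-!
# The vanishing hypothesis over a field
-/

set_option autoImplicit false

universe u

open CategoryTheory CategoryTheory.Limits AlgebraicGeometry
open Groth.PicAux

namespace Groth.LefAlg

variable {X : Scheme.{u}}

theorem depth_structureModule (x : X) :
    LocCoh.depth (X.presheaf.stalk x) ((Coh.structureModule X).presheaf.stalk x) =
      LocCoh.depth (X.presheaf.stalk x) (X.presheaf.stalk x) :=
  (LocCohBase.idealDepth_congr (LinearEquiv.ofBijective _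
    (CohTwo.bijective_toSpanSingleton_one x))).symm

/-- Negative twists of finite locally free modules on the divisor have no `H^1`. -/
theorem van_of_depth (k : Type u) [Field k] [X.Over (Spec (CommRingCat.of k))]
    [IsProper (X ↘ Spec (CommRingCat.of k))] {L K : X.Modules} (hL : CohB1.IsAmple L)
    (hLK : ClSub.IsInverseOf L K) {Z : Scheme.{u}} (i : Z ⟶ X) [IsClosedImmersion i]
    (hd : ∀ z : Z, IsClosed ({z} : Set Z) →
      (2 : ℕ∞) ≤ LocCoh.depth (Z.presheaf.stalk z) (Z.presheaf.stalk z))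
    {N₀ : Z.Modules} (hN : FlatMod.IsFinLocFree N₀) :
    Van L ((Scheme.Modules.pushforward i).obj N₀) := by
  let f := X ↘ Spec (CommRingCat.of k)
  have : IsLocallyNoetherian X := LocallyOfFiniteType.isLocallyNoetherian f
  have : IsLocallyNoetherian Z := LocallyOfFiniteType.isLocallyNoetherian i
  let F := (Scheme.Modules.pushforward i).obj N₀
  have hF : Coh.IsCoh F := Groth.CohTwo.isCoh_push i (Groth.KTheory.LocFree.isCoh hN)
  obtain ⟨m₀, hm⟩ := Groth.LefVanish.exists_subsingleton_negPow k f hL hLK F hF 2 fun x hx => by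
    by_cases hxr : x ∈ Set.range i
    · obtain ⟨z, rfl⟩ := hxr
      have hz : IsClosed ({z} : Set Z) := by
        have e : i ⁻¹' {i z} = ({z} : Set Z) :=
          Set.ext fun w => ⟨fun hw => i.isClosedEmbedding.injective hw, fun hw => congrArg i hw⟩
        exact e ▸ hx.preimage i.continuous
      have := Groth.KTheory.LocFree.free_stalk hN z
      have := Groth.LocFree.finite_stalk hN z
      exact ((hd z hz).trans (Groth.Duality.depth_le_depth_free (N₀.presheaf.stalk z))).trans
        (Groth.Duality.depth_push_stalk i N₀ z).ge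
    · have : Subsingleton (F.presheaf.stalk x) :=
        not_not.1 fun hs => hxr (Groth.CohTwo.support_push_subset i N₀ hs)
      rw [Groth.Duality.depth_eq_top_of_subsingleton']
      exact le_top
  refine ⟨m₀, fun m hmm N ⟨e⟩ => ?_⟩
  obtain ⟨θ⟩ := nonempty_itT_cancel hLK m
  obtain ⟨p⟩ := nonempty_itT_pow K F m
  exact Groth.PnCoh.subsingleton_HH_of_iso f ((θ.app N).symm ≪≫ (itT K m).mapIso e ≪≫ p).symm
    (hm m hmm 1 (by omega))

/-- If `H^1(O_D(-m)) = 0` for all large `m` and `X` has depth two, the divisor has depth two. -/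
theorem depth_divisor (k : Type u) [Field k] [X.Over (Spec (CommRingCat.of k))]
    [IsProper (X ↘ Spec (CommRingCat.of k))] {I : X.IdealSheafData} {L : X.Modules}
    (hL : ClSub.IsInverseOf L (ClSub.idealMod I)) (hamp : CohB1.IsAmple L)
    (hd : ∀ z : X, IsClosed ({z} : Set X) →
      (2 : ℕ∞) ≤ LocCoh.depth (X.presheaf.stalk z) (X.presheaf.stalk z))
    (m₁ : ℕ) (h1 : ∀ m : ℕ, m₁ ≤ m → Subsingleton (Coh.HH X
      (CohB1.tensorMod (CohB1.tensorPow (ClSub.idealMod I) m) (ClSub.quotMod I)) 1))
    (z : I.subscheme) (hz : IsClosed ({z} : Set I.subscheme)) :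
    (2 : ℕ∞) ≤ LocCoh.depth (I.subscheme.presheaf.stalk z) (I.subscheme.presheaf.stalk z) := by
  let f := X ↘ Spec (CommRingCat.of k)
  let K := ClSub.idealMod I
  have : IsLocallyNoetherian X := LocallyOfFiniteType.isLocallyNoetherian f
  have : IsLocallyNoetherian I.subscheme := LocallyOfFiniteType.isLocallyNoetherian I.subschemeι
  have hK : PicF.IsInvertible K := isInvertible_of_isInverseOf hamp.1 hL
  have hQ : Coh.IsCoh (ClSub.quotMod I) :=
    Groth.CohTwo.isCoh_push I.subschemeι (Groth.KTheory.LocFree.isCoh (LocFree.isFinLocFree_unit _))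
  have hO : Coh.IsCoh (Coh.structureModule X) := Groth.KTheory.LocFree.isCoh (LocFree.isFinLocFree_unit _)
  -- negative twists of the structure module
  obtain ⟨m₀, hm⟩ := Groth.LefVanish.exists_subsingleton_negPow k f hamp hL (Coh.structureModule X)
    hO 2 fun z hz => (hd z hz).trans (depth_structureModule z).ge
  have hpow : ∀ t, m₀ ≤ t → ∀ i, i < 2 → Subsingleton (Coh.HH X (CohB1.tensorPow K t) i) :=
    fun t ht i hi => Groth.PnCoh.subsingleton_HH_of_iso f
      (exists_leftUnitor (CohB1.tensorPow K t)).choose (hm t ht i hi)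
  have hvan : ∀ t, max m₀ m₁ ≤ t → ∀ j, j < 2 →
      Subsingleton (Coh.HH X (CohB1.tensorMod (ClSub.quotMod I) (CohB1.tensorPow K t)) j) := by
    intro t ht j hj
    rcases j with _ | _ | j
    · have hS := shortExact_idealMod_twist I (isInvertible_tensorPow hK t)
      set S := (ShortComplex.mk (ClSub.idealModι I) (ClSub.toSubscheme I)
        (kernel.condition (ClSub.toSubscheme I))).map (DCoh.tensorRightMod (CohB1.tensorPow K t))
      have hB : Subsingleton (Coh.HH X S.X₂ 0) := Groth.PnCoh.subsingleton_HH_of_iso f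
        (exists_leftUnitor (CohB1.tensorPow K t)).choose.symm (hpow t (le_of_max_le_left ht) 0 hj)
      have hA : Subsingleton (Coh.HH X S.X₁ 1) := Groth.PnCoh.subsingleton_HH_of_iso f
        (exists_braiding (ClSub.idealMod I) (CohB1.tensorPow K t)).choose.symm
        (hpow (t + 1) (le_trans (le_of_max_le_left ht) t.le_succ) 1 (by omega))
      have hC : Subsingleton (Coh.HH X S.X₃ 0) := by
        refine ⟨fun a b => sub_eq_zero.1 ?_⟩
        obtain ⟨y, hy⟩ := (Groth.EulerDeg.exact_right k hS 0 (a - b)).1 (Subsingleton.elim _ _)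
        rw [← hy, Subsingleton.elim y 0, map_zero]
      exact hC
    · exact Groth.PnCoh.subsingleton_HH_of_iso f (exists_braiding _ _).choose
        (h1 t (le_of_max_le_right ht))
    · omega
  obtain ⟨m, N, j, hN, hj, hjf, ⟨e⟩⟩ := Groth.PnCoh.exists_closedImmersion_of_isAmple f hamp
  have hcl : IsClosed ({I.subschemeι z} : Set X) := by
    simpa [Set.image_singleton] using I.subschemeι.isClosedEmbedding.isClosedMap _ hz
  have := (Groth.Duality.Pn.exists_subsingleton_pullback_iff_depth j hQ 2).1 ⟨max m₀ m₁, fun q hq i hi => ?_⟩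
    _ hcl
  · exact this.trans ((Groth.Duality.depth_push_stalk I.subschemeι (Coh.structureModule _) z).le.trans
      (depth_structureModule z).le)
  obtain ⟨e₂⟩ := tensorPow_mul L N q
  obtain ⟨e₃⟩ := nonempty_tensorPow_iso e q
  obtain ⟨e₄⟩ := pullback_tensorPow j (Twist.twistProjSpace m k 1) q
  obtain ⟨e₅⟩ := Groth.PnCoh.nonempty_twist_pow (CohB1.polyGrading m k)
    (Groth.Duality.Pn.irrelevant_le_span_one m k) q
  have e₆ : CohB1.tensorPow L (N * q) ≅
      (Scheme.Modules.pullback j).obj (Twist.twistProjSpace m k (q : ℤ)) :=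
    e₂ ≪≫ e₃ ≪≫ e₄.symm ≪≫ (Scheme.Modules.pullback j).mapIso e₅
  obtain ⟨u₀⟩ := Groth.Duality.Pn.isInverseOf_twist m k (q : ℤ)
  obtain ⟨u₁, -⟩ := exists_pullback_tensorMod j (Twist.twistProjSpace m k (q : ℤ))
    (Twist.twistProjSpace m k (-(q : ℤ)))
  have hinv : ClSub.IsInverseOf (CohB1.tensorPow L (N * q))
      ((Scheme.Modules.pullback j).obj (Twist.twistProjSpace m k (-(q : ℤ)))) := by
    haveI := isIso_pullUnit j
    exact ⟨PicGrp.tensorModIso e₆ (Iso.refl _) ≪≫ u₁.symm ≪≫ (Scheme.Modules.pullback j).mapIso u₀ ≪≫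
      asIso (pullUnit j)⟩
  obtain ⟨e₇⟩ := isInverseOf_unique hinv (isInverseOf_tensorPow hL (N * q))
  exact Groth.PnCoh.subsingleton_HH_of_iso f (PicGrp.tensorModIso (Iso.refl _) e₇.symm)
    (hvan (N * q) (hq.trans (Nat.le_mul_of_pos_left q hN)) i hi)

end Groth.LefAlg
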