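import Groth.Agent.LefAlg.Strict
import Groth.Agent.AdicLinTop.AlgzBridge
import Groth.Agent.LocFree.Tensor
import Groth.Agent.CohTwo.PushClosed
import Groth.Prelude.Def_LefX

/-!
# The strict system of a levelwise locally free system on a completion
-/

set_option autoImplicit false

universe u

open CategoryTheory CategoryTheory.Limits AlgebraicGeometry
open Groth.QCohMod (pushEquiv pushEquiv_smul)

namespace Groth.LefAlg

/-- `a`-divisibility of torsion passes to projective modules. -/
theorem exists_smul_of_projective {R M : Type u} [CommRing R] [AddCommGroup M] [Module R M]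
    [Module.Projective R M] {t a : R} (h : ∀ r, t * r = 0 → ∃ c, r = a * c) {p : M}
    (hp : t • p = 0) : ∃ q, p = a • q := by
  obtain ⟨σ, hσ⟩ := Module.projective_def'.1 ‹Module.Projective R M›
  have hi : ∀ i, t * σ p i = 0 := fun i => by
    rw [← smul_eq_mul, ← Finsupp.smul_apply, ← map_smul, hp, map_zero, Finsupp.coe_zero,
      Pi.zero_apply]
  choose c hc using fun i => h _ (hi i)
  refine ⟨∑ i ∈ (σ p).support, c i • i, ?_⟩
  conv_lhs => rw [← LinearMap.id_apply (R := R) p, ← hσ]
  rw [LinearMap.comp_apply, Finsupp.linearCombination_apply, Finsupp.sum, Finset.smul_sum]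
  exact Finset.sum_congr rfl fun i _ => by rw [hc i, mul_smul]; rfl

section Level

variable {W Z X : Scheme.{u}} (f : W ⟶ Z) (g : Z ⟶ X) [IsClosedImmersion f] [IsClosedImmersion g]
  (h : W ⟶ X) (hh : f ≫ g = h)

/-- The transition map of one step. -/
noncomputable def step {N' : Z.Modules} {N : W.Modules}
    (e : (Scheme.Modules.pullback f).obj N' ≅ N) :
    (Scheme.Modules.pushforward g).obj N' ⟶ (Scheme.Modules.pushforward h).obj N :=
  (Scheme.Modules.pushforward g).map
      ((Scheme.Modules.pullbackPushforwardAdjunction f).homEquiv _ _ e.hom) ≫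
    (Scheme.Modules.pushforwardComp f g).hom.app N ≫ (Scheme.Modules.pushforwardCongr hh).hom.app N

theorem step_facts {N' : Z.Modules} [N'.IsQuasicoherent] {N : W.Modules}
    (e : (Scheme.Modules.pullback f).obj N' ≅ N) (V : X.affineOpens) (a : Γ(X, V.1))
    (ha : h.ker.ideal V = Ideal.span {a}) :
    Function.Surjective ((step f g h hh e).app V.1) ∧
      ∀ p : Γ((Scheme.Modules.pushforward g).obj N', V.1),
        (step f g h hh e).app V.1 p = 0 → ∃ q, p = a • q := by
  subst hh
  have hU : IsAffineOpen (g ⁻¹ᵁ V.1) := V.2.preimage g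
  obtain ⟨hus, huk⟩ := Groth.QCohMod.unit_closedImmersion_app f N' hU
  let rest : (Scheme.Modules.pushforward g).obj ((Scheme.Modules.pushforward f).obj
      ((Scheme.Modules.pullback f).obj N')) ≅ (Scheme.Modules.pushforward (f ≫ g)).obj N :=
    (Scheme.Modules.pushforward g).mapIso ((Scheme.Modules.pushforward f).mapIso e) ≪≫
      (Scheme.Modules.pushforwardComp f g).app N ≪≫
      (Scheme.Modules.pushforwardCongr (rfl : f ≫ g = f ≫ g)).app N
  have hstep : step f g (f ≫ g) rfl e = (Scheme.Modules.pushforward g).map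
      ((Scheme.Modules.pullbackPushforwardAdjunction f).unit.app N') ≫ rest.hom := by
    simp only [step, rest, Adjunction.homEquiv_unit, Functor.map_comp, Category.assoc,
      Iso.trans_hom, Functor.mapIso_hom, Iso.app_hom]
  have hbij : Function.Bijective (rest.hom.app V.1) := ConcreteCategory.bijective_of_isIso _
  rw [hstep]
  refine ⟨fun z => ?_, fun p hp => ?_⟩
  · obtain ⟨y, rfl⟩ := hbij.2 z
    obtain ⟨p, hp⟩ := hus y
    exact ⟨p, congrArg (rest.hom.app V.1) hp⟩
  · have h0 : ((Scheme.Modules.pullbackPushforwardAdjunction f).unit.app N').app (g ⁻¹ᵁ V.1) p = 0 :=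
      hbij.1 (hp.trans (map_zero (rest.hom.app V.1).hom).symm)
    have hI : f.ker.ideal ⟨g ⁻¹ᵁ V.1, hU⟩ = Ideal.span {g.app V.1 a} := by
      rw [Groth.AdicLinTop.Thickenings.ker_eq_comap_ker_comp f g,
        Divisors.ideal_comap_affine _ g V ⟨g ⁻¹ᵁ V.1, hU⟩ le_rfl, ha, Ideal.map_span,
        Set.image_singleton, ← Scheme.Hom.app_eq_appLE]
    have := (huk p).1 h0
    rw [hI, Submodule.ideal_span_singleton_smul, Submodule.mem_smul_pointwise_iff_exists] at this
    obtain ⟨q, -, hq⟩ := this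
    exact ⟨(pushEquiv g N' V.1).symm q, (pushEquiv g N' V.1).injective
      (by rw [pushEquiv_smul]; exact hq.symm)⟩

omit [IsClosedImmersion f] in
theorem tors_push {N' : Z.Modules} (hN : FlatMod.IsFinLocFree N') (V : X.affineOpens)
    {t a : Γ(X, V.1)} (hnzd : t ∈ nonZeroDivisors Γ(X, V.1))
    (hker : g.ker.ideal V = Ideal.span {t * a})
    (p : Γ((Scheme.Modules.pushforward g).obj N', V.1)) (hp : t • p = 0) : ∃ q, p = a • q := by
  have hU : IsAffineOpen (g ⁻¹ᵁ V.1) := V.2.preimage g
  have := (Groth.LocFree.finite_projective_sections hN hU).2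
  have hp' : g.app V.1 t • (pushEquiv g N' V.1 p) = 0 := by
    rw [← pushEquiv_smul, hp, map_zero]
  have hdiv : ∀ r : Γ(Z, g ⁻¹ᵁ V.1), g.app V.1 t * r = 0 → ∃ c, r = g.app V.1 a * c := by
    intro r hr
    obtain ⟨r, rfl⟩ := g.app_surjective V.1 V.2 r
    have hm : t * r ∈ g.ker.ideal V := by
      rw [Scheme.Hom.ker_apply, RingHom.mem_ker, map_mul]
      exact hr
    rw [hker, Ideal.mem_span_singleton'] at hm
    obtain ⟨c, hc⟩ := hm
    refine ⟨g.app V.1 c, ?_⟩
    rw [← map_mul]
    refine congrArg _ (sub_eq_zero.1 ((mem_nonZeroDivisors_iff_left.1 hnzd) _ ?_))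
    rw [mul_sub, sub_eq_zero, ← hc, mul_comm a c, mul_left_comm]
  obtain ⟨q, hq⟩ := exists_smul_of_projective hdiv hp'
  exact ⟨(pushEquiv g N' V.1).symm q, (pushEquiv g N' V.1).injective
    (by rw [pushEquiv_smul]; exact hq)⟩

end Level

variable {X : Scheme.{u}} {I : X.IdealSheafData}

/-- The direct images of the levels. -/
noncomputable def pushLvl (𝔐 : FSch.ModSys (FSch.completionAlong X I)) (b : ℕ) : X.Modules :=
  (Scheme.Modules.pushforward (FSch.completionToX X I b)).obj (𝔐.F b)

/-- Their transition maps. -/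
noncomputable def pushTr (𝔐 : FSch.ModSys (FSch.completionAlong X I)) (b : ℕ) :
    pushLvl 𝔐 (b + 1) ⟶ pushLvl 𝔐 b :=
  Groth.AdicLinTop.AlgzBridge.tr 𝔐 b

theorem toX_ker_ideal (b : ℕ) {L : X.Modules} {s : Coh.structureModule X ⟶ L} {V : X.affineOpens}
    {t : Γ(X, V.1)} {e : Γ(L, V.1)} (hc : IsChart I L s V t e) :
    (FSch.completionToX X I b).ker.ideal V = Ideal.span {t ^ (b + 1)} := by
  rw [← Ideal.span_singleton_pow, ← hc.ideal_eq]
  exact (congrArg (fun J : X.IdealSheafData => J.ideal V)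
    (Scheme.IdealSheafData.ker_subschemeι (I ^ (b + 1)))).trans (by
      rw [Scheme.IdealSheafData.ideal_pow, Pi.pow_apply])

theorem pushTr_facts (𝔐 : FSch.ModSys (FSch.completionAlong X I))
    (h : LefX.LevelwiseFinLocFree 𝔐) (b : ℕ) (V : X.affineOpens) (a : Γ(X, V.1))
    (ha : (FSch.completionToX X I b).ker.ideal V = Ideal.span {a}) :
    Function.Surjective ((pushTr 𝔐 b).app V.1) ∧
      ∀ p, (pushTr 𝔐 b).app V.1 p = 0 → ∃ q, p = a • q := by
  have := Groth.KTheory.LocFree.isQCoh (h (b + 1))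
  exact step_facts ((FSch.completionAlong X I).ι b) (FSch.completionToX X I (b + 1))
    (FSch.completionToX X I b) (Groth.AdicLinTop.AlgzBridge.ι_toX I b) (𝔐.e b) V a ha

/-- A levelwise finite locally free system gives a strict system. -/
theorem strict_pushLvl {L : X.Modules} (s : Coh.structureModule X ⟶ L)
    (𝔐 : FSch.ModSys (FSch.completionAlong X I)) (h : LefX.LevelwiseFinLocFree 𝔐) :
    Strict I L s (pushLvl 𝔐) (pushTr 𝔐) where
  qcoh b :=
    haveI := Groth.KTheory.LocFree.isQCoh (h b)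
    Groth.QCohMod.isQCoh_pushforward (M := 𝔐.F b) (FSch.completionToX X I b)
  surj b V t _ hc := (pushTr_facts 𝔐 h b V _ (toX_ker_ideal b hc)).1
  ann b V t e hc p :=
    Groth.QCohMod.killed_pushforward (FSch.completionToX X I b) (𝔐.F b) V (t ^ (b + 1))
      ((toX_ker_ideal b hc).ge (Ideal.mem_span_singleton_self _)) p
  ker b V t _ hc := (pushTr_facts 𝔐 h b V _ (toX_ker_ideal b hc)).2
  tors b V t e hc p hp :=
    tors_push (FSch.completionToX X I (b + 1)) (h (b + 1)) V hc.nzd.mem_nonZeroDivisors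
      (by rw [← pow_succ']; exact toX_ker_ideal (b + 1) hc) p hp

theorem isCoh_pushLvl [IsLocallyNoetherian X] (𝔐 : FSch.ModSys (FSch.completionAlong X I))
    (h : LefX.LevelwiseFinLocFree 𝔐) (b : ℕ) : Coh.IsCoh (pushLvl 𝔐 b) :=
  Groth.CohTwo.isCoh_push (FSch.completionToX X I b) (Groth.KTheory.LocFree.isCoh (h b))

end Groth.LefAlg
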