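import Groth.Agent.LefAlg.Chain
import Groth.Agent.Ega2Proj.SpansFinite
import Groth.Agent.QCohMod.Category
import Groth.Agent.LocFree.Tensor
import Groth.Agent.FlatmorThree.Resolution
import Groth.Agent.ParaFormal.Basic

/-!
# Strict systems are quotients of finite locally free modules
-/

set_option autoImplicit false

universe u

open CategoryTheory CategoryTheory.Limits AlgebraicGeometry
open Groth.PicAux
open Groth.CohTwo.SheafHomIso (tF tF_map_tmulSec)

namespace Groth.LefAlg

variable {X : Scheme.{u}} {I : X.IdealSheafData} {L : X.Modules} {s : Coh.structureModule X ⟶ L}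
  {P : ℕ → X.Modules} {π : ∀ b, P (b + 1) ⟶ P b}

theorem nonempty_itT_cancel {K : X.Modules} (h : ClSub.IsInverseOf L K) :
    ∀ e : ℕ, Nonempty (itT L e ⋙ itT K e ≅ 𝟭 X.Modules)
  | 0 => ⟨Functor.leftUnitor _⟩
  | e + 1 => by
    obtain ⟨θ⟩ := nonempty_itT_cancel h e
    obtain ⟨η⟩ := exists_cancel h
    obtain ⟨c⟩ := itT_add K e 1
    exact ⟨Functor.isoWhiskerLeft _ (c ≪≫ Functor.isoWhiskerRight (Functor.leftUnitor (tF K)) _) ≪≫
      Functor.associator _ _ _ ≪≫ Functor.isoWhiskerLeft _ ((Functor.associator _ _ _).symm ≪≫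
        Functor.isoWhiskerRight η _ ≪≫ Functor.leftUnitor _) ≪≫ θ⟩

theorem isFinLocFree_itT {K : X.Modules} (hK : FlatMod.IsFinLocFree K) {M : X.Modules}
    (hM : FlatMod.IsFinLocFree M) : ∀ d : ℕ, FlatMod.IsFinLocFree ((itT K d).obj M)
  | 0 => hM
  | d + 1 => Groth.LocFree.isFinLocFree_tensorMod hK (isFinLocFree_itT hK hM d)

/-- A compatible family of morphisms which is epi in degree zero is epi in every degree. -/
theorem epi_of_epi_zero (hs : DivSec I L s) (h : Strict I L s P π) {E : X.Modules}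
    [E.IsQuasicoherent] (g : ∀ b, E ⟶ P b) (hg : ∀ b, g (b + 1) ≫ π b = g b) [Epi (g 0)] :
    ∀ b, Epi (g b) := by
  intro b
  have := h.qcoh b
  have := h.qcoh 0
  refine Groth.OmegaSheaf.epi_of_affine_cover _ fun x => ?_
  obtain ⟨V, t, e, hx, -, hc⟩ := hs x ⊤ trivial
  refine ⟨V.1, V.2, hx, ?_⟩
  have htop : ∀ c, g c ≫ top π c = g 0 := by
    intro c
    induction c with
    | zero => exact Category.comp_id _
    | succ c ih => rw [top, ← Category.assoc, hg, ih]
  intro p
  -- successive approximation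
  have key : ∀ k : ℕ, ∀ p : Γ(P b, V.1), ∃ a q, p = (g b).app V.1 a + t ^ k • q := by
    intro k
    induction k with
    | zero => exact fun p => ⟨0, p, by rw [map_zero, zero_add, pow_zero, one_smul]⟩
    | succ k ih =>
      intro p
      obtain ⟨a, q, rfl⟩ := ih p
      obtain ⟨a', ha'⟩ := Groth.QCohMod.app_surjective_of_epi (g 0) V.2 ((top π b).app V.1 q)
      obtain ⟨r, hr⟩ := top_smul_eq h hc b (q - (g b).app V.1 a') (by
        rw [map_sub, sub_eq_zero, ← ha', ← htop b]
        rfl)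
      refine ⟨a + t ^ k • a', r, ?_⟩
      rw [map_add, Scheme.Modules.Hom.app_smul, pow_succ, mul_smul, ← hr, smul_sub, add_assoc,
        add_sub_cancel]
  obtain ⟨a, q, rfl⟩ := key (b + 1) p
  exact ⟨a, by rw [h.ann b V t e hc, add_zero]⟩

/-- A strict system with vanishing negative twists is a quotient of a finite locally free module. -/
theorem exists_gen (A : Type u) [CommRing A] [X.Over (Spec (CommRingCat.of A))] [IsNoetherianRing A]
    [IsProper (X ↘ Spec (CommRingCat.of A))] {K : X.Modules} (hLK : ClSub.IsInverseOf L K)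
    (hamp : CohB1.IsAmple L) (hs : DivSec I L s) (h : Strict I L s P π)
    (hcoh : ∀ b, Coh.IsCoh (P b)) (hV : Van L (P 0)) :
    ∃ (E : X.Modules) (g : ∀ b, E ⟶ P b), FlatMod.IsFinLocFree E ∧
      (∀ b, g (b + 1) ≫ π b = g b) ∧ ∀ b, Epi (g b) := by
  classical
  have hL := hamp.1
  have hKi : PicF.IsInvertible K :=
    isInvertible_of_isInverseOf hL hLK
  have : CompactSpace X := hamp.2.1
  have := h.qcoh 0
  obtain ⟨e₀, he₀⟩ := exists_lift A hL hamp hs h hcoh hV
  obtain ⟨n₀, hn₀⟩ := Groth.Ega2Proj.exists_spans_twist hamp (P 0) (hcoh 0).2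
  let e := max e₀ n₀
  have : ((itT L e).obj (P 0)).IsQuasicoherent := isQCoh_itT hL e
  obtain ⟨k, p, hp⟩ := Groth.Ega2Proj.exists_epi_freeMod_of_spans ((itT L e).obj (P 0))
    (isCoh_itT hL (hcoh 0) e).2
    (Groth.Ega2Proj.SpansStalks.of_iso (nonempty_itT_pow L (P 0) e).some.symm
      (hn₀ e (le_max_right _ _)))
  choose v hv hv₀ using fun i : Fin k => he₀ e (le_max_left _ _)
    ((Sigma.ι (fun _ : Fin k => Coh.structureModule X) i ≫ p).app ⊤ (oneSec X ⊤))
  let q : ∀ b, FlatMod.freeMod X k ⟶ (itT L e).obj (P b) := fun b =>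
    Sigma.desc fun i => homOfSection (v i b)
  have hq : ∀ b, q (b + 1) ≫ (itT L e).map (π b) = q b := by
    intro b
    refine Sigma.hom_ext _ _ fun i => hom_structure_ext ?_
    simp only [q, colimit.ι_desc_assoc, colimit.ι_desc, Cofan.mk_pt, Cofan.mk_ι_app]
    change ((itT L e).map (π b)).app ⊤ ((homOfSection (v i (b + 1))).app ⊤ (oneSec X ⊤)) =
      (homOfSection (v i b)).app ⊤ (oneSec X ⊤)
    rw [homOfSection_one, homOfSection_one, hv]
  have hq₀ : q 0 = p := by
    refine Sigma.hom_ext _ _ fun i => hom_structure_ext ?_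
    simp only [q, colimit.ι_desc, Cofan.mk_pt, Cofan.mk_ι_app]
    exact (homOfSection_one _).trans (hv₀ i)
  obtain ⟨η⟩ := nonempty_itT_cancel hLK e
  obtain ⟨_, _, _⟩ := exact_itT hKi e
  let E := (itT K e).obj (FlatMod.freeMod X k)
  have hE : FlatMod.IsFinLocFree E := isFinLocFree_itT (isFinLocFree_of_isInvertible' hKi)
    (Groth.FlatmorThree.ResProp.isFinLocFree_sigma_finite (Fin k) _ fun _ =>
      LocFree.isFinLocFree_unit X) e
  have : E.IsQuasicoherent := Groth.KTheory.LocFree.isQCoh hE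
  let g : ∀ b, E ⟶ P b := fun b => (itT K e).map (q b) ≫ η.hom.app (P b)
  have hg : ∀ b, g (b + 1) ≫ π b = g b := by
    intro b
    have hn := η.hom.naturality (π b)
    simp only [Functor.id_map, Functor.comp_map] at hn
    change ((itT K e).map (q (b + 1)) ≫ η.hom.app (P (b + 1))) ≫ π b = _
    rw [Category.assoc, ← hn, ← Category.assoc, ← Functor.map_comp, hq]
  have : Epi (q 0) := hq₀ ▸ hp
  have : Epi (g 0) := inferInstanceAs (Epi ((itT K e).map (q 0) ≫ η.hom.app (P 0)))
  exact ⟨E, g, hE, hg, epi_of_epi_zero hs h g hg⟩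

end Groth.LefAlg
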