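import Groth.Agent.LefAlg.Gen

/-!
# Kernels of surjections of strict systems
-/

set_option autoImplicit false

universe u

open CategoryTheory CategoryTheory.Limits AlgebraicGeometry

namespace Groth.LefAlg

variable {X : Scheme.{u}} {I : X.IdealSheafData} {L : X.Modules} {s : Coh.structureModule X ⟶ L}
  {P P' : ℕ → X.Modules} {π : ∀ b, P (b + 1) ⟶ P b} {π' : ∀ b, P' (b + 1) ⟶ P' b}

theorem exists_smul_of_pow_smul_eq_zero (h : Strict I L s P π) {V : X.affineOpens}
    {t : Γ(X, V.1)} {e : Γ(L, V.1)} (hc : IsChart I L s V t e) : ∀ (b : ℕ) (x : Γ(P (b + 1), V.1)),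
    t ^ (b + 1) • x = 0 → ∃ y, x = t • y := by
  intro b
  induction b with
  | zero =>
    intro x hx
    obtain ⟨q, hq⟩ := h.tors 0 V t e hc x (by simpa using hx)
    exact ⟨q, by simpa using hq⟩
  | succ b ih =>
    intro x hx
    rw [pow_succ', mul_smul] at hx
    obtain ⟨y, hy⟩ := h.tors (b + 1) V t e hc _ hx
    obtain ⟨z, hz⟩ := ih ((π (b + 1)).app V.1 x) (by
      rw [← Scheme.Modules.Hom.app_smul, hy, Scheme.Modules.Hom.app_smul]
      exact h.ann (b + 1) V t e hc _)
    obtain ⟨z', rfl⟩ := h.surj (b + 1) V t e hc z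
    obtain ⟨r, hr⟩ := h.ker (b + 1) V t e hc (x - t • z') (by
      rw [map_sub, Scheme.Modules.Hom.app_smul, hz, sub_self])
    exact ⟨z' + t ^ (b + 1) • r, by
      rw [smul_add, ← mul_smul, ← pow_succ', ← hr, add_sub_cancel]⟩

/-- The transition maps of the kernels. -/
noncomputable def kerTr (w : ∀ b, P b ⟶ P' b) (hw : ∀ b, π b ≫ w b = w (b + 1) ≫ π' b) (b : ℕ) :
    kernel (w (b + 1)) ⟶ kernel (w b) :=
  kernel.map (w (b + 1)) (w b) (π b) (π' b) (hw b).symm

/-- The kernel of a surjection of strict systems is strict. -/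
theorem Strict.kernel (h : Strict I L s P π) (h' : Strict I L s P' π') (w : ∀ b, P b ⟶ P' b)
    (hw : ∀ b, π b ≫ w b = w (b + 1) ≫ π' b) [∀ b, Epi (w b)] :
    Strict I L s (fun b => Limits.kernel (w b)) (kerTr w hw) := by
  have := h.qcoh
  have := h'.qcoh
  have hι : ∀ b (V : X.Opens), Function.Injective ((Limits.kernel.ι (w b)).app V) := fun b V =>
    Groth.QCohMod.app_injective_of_mono _ V
  have hzero : ∀ b (V : X.Opens) (k : Γ(Limits.kernel (w b), V)),
      (w b).app V ((Limits.kernel.ι (w b)).app V k) = 0 := fun b V k => by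
    rw [← ConcreteCategory.comp_apply, ← Scheme.Modules.Hom.comp_app, kernel.condition]
    rfl
  have hlift : ∀ b (V : X.Opens) (p : Γ(P b, V)), (w b).app V p = 0 →
      ∃ k, (Limits.kernel.ι (w b)).app V k = p := fun b V p hp => by
    have : Mono (ShortComplex.mk (Limits.kernel.ι (w b)) (w b) (kernel.condition _)).f :=
      inferInstanceAs (Mono (Limits.kernel.ι (w b)))
    have hex : (ShortComplex.mk (Limits.kernel.ι (w b)) (w b) (kernel.condition _)).Exact :=
      ShortComplex.exact_of_f_is_kernel _ (kernelIsKernel (w b))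
    exact Groth.QCohMod.exists_app_eq_of_mono_exact hex V p hp
  have htr : ∀ b (V : X.Opens) (k : Γ(Limits.kernel (w (b + 1)), V)),
      (Limits.kernel.ι (w b)).app V ((kerTr w hw b).app V k) =
        (π b).app V ((Limits.kernel.ι (w (b + 1))).app V k) := fun b V k => by
    rw [← ConcreteCategory.comp_apply, ← Scheme.Modules.Hom.comp_app, kerTr, kernel.map,
      kernel.lift_ι]
    rfl
  have hnat : ∀ b (V : X.Opens) (p : Γ(P (b + 1), V)),
      (π' b).app V ((w (b + 1)).app V p) = (w b).app V ((π b).app V p) := fun b V p => by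
    rw [← ConcreteCategory.comp_apply, ← Scheme.Modules.Hom.comp_app, ← hw]
    rfl
  -- division by `t^(b+1)` inside the kernel
  have hdiv : ∀ b (V : X.affineOpens) t e, IsChart I L s V t e →
      ∀ (k : Γ(Limits.kernel (w (b + 1)), V.1)) q,
        (Limits.kernel.ι (w (b + 1))).app V.1 k = t ^ (b + 1) • q →
        ∃ k', k = t ^ (b + 1) • k' := by
    intro b V t e hc k q hq
    have h0 : t ^ (b + 1) • (w (b + 1)).app V.1 q = 0 := by
      rw [← Scheme.Modules.Hom.app_smul, ← hq, hzero]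
    obtain ⟨y, hy⟩ := exists_smul_of_pow_smul_eq_zero h' hc b _ h0
    obtain ⟨y', rfl⟩ := Groth.QCohMod.app_surjective_of_epi (w (b + 1)) V.2 y
    obtain ⟨k', hk'⟩ := hlift (b + 1) V.1 (q - t • y') (by
      rw [map_sub, Scheme.Modules.Hom.app_smul, hy, sub_self])
    refine ⟨k', hι _ _ ?_⟩
    rw [Scheme.Modules.Hom.app_smul, hk', smul_sub, ← mul_smul, ← pow_succ,
      h.ann (b + 1) V t e hc, sub_zero, hq]
  refine ⟨fun b => inferInstance, fun b V t e hc k => ?_, fun b V t e hc k => ?_,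
    fun b V t e hc k hk => ?_, fun b V t e hc k hk => ?_⟩
  · obtain ⟨p, hp⟩ := h.surj b V t e hc ((Limits.kernel.ι (w b)).app V.1 k)
    obtain ⟨r, hr⟩ := h'.ker b V t e hc ((w (b + 1)).app V.1 p) (by rw [hnat, hp, hzero])
    obtain ⟨r', rfl⟩ := Groth.QCohMod.app_surjective_of_epi (w (b + 1)) V.2 r
    obtain ⟨k', hk'⟩ := hlift (b + 1) V.1 (p - t ^ (b + 1) • r') (by
      rw [map_sub, Scheme.Modules.Hom.app_smul, hr, sub_self])
    refine ⟨k', hι _ _ ?_⟩
    rw [htr, hk', map_sub, Scheme.Modules.Hom.app_smul, h.ann b V t e hc, sub_zero, hp]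
  · apply hι
    rw [Scheme.Modules.Hom.app_smul, h.ann b V t e hc, map_zero]
  · obtain ⟨q, hq⟩ := h.ker b V t e hc _ (by rw [← htr, hk, map_zero])
    exact hdiv b V t e hc k q hq
  · obtain ⟨q, hq⟩ := h.tors b V t e hc ((Limits.kernel.ι (w (b + 1))).app V.1 k)
      (by rw [← Scheme.Modules.Hom.app_smul, hk, map_zero])
    exact hdiv b V t e hc k q hq

end Groth.LefAlg
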