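import Groth.Agent.LefSections.Covers
import Groth.Agent.LocFree.ExtPullback
import Groth.Agent.LocFree.AffineHom
import Groth.Agent.SpecFerrand.BasisTools
import Groth.Agent.SpecFerrand.PushHom
import Groth.Agent.Pi1Inv.Thickening
import Groth.Agent.RefRank.Norm.FinLocFree
import Groth.Prelude.Def_LefX

/-!
# The system of modules of the lifts of a finite etale cover to the thickenings
-/

universe u

set_option autoImplicit false
set_option backward.isDefEq.respectTransparency false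
set_option linter.style.haveILetI false

open CategoryTheory CategoryTheory.Limits AlgebraicGeometry Opposite TopologicalSpace
open scoped TensorProduct
open Groth.PicAux (pullSec pullSec_smul)
open Groth.LefSections (pushO)

namespace Groth.LefAlg

/-- A section of a quasi-coherent module vanishes on a closed subscheme iff it is divisible by its ideal. -/
theorem pullSec_eq_zero_iff {Z X : Scheme.{u}} (i : Z ⟶ X) [IsClosedImmersion i] (M : X.Modules)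
    [M.IsQuasicoherent] {V : X.Opens} (hV : IsAffineOpen V) (x : Γ(M, V)) :
    pullSec i M x = 0 ↔ x ∈ RingHom.ker (i.app V).hom • (⊤ : Submodule Γ(X, V) Γ(M, V)) := by
  let e₀ : i ⁻¹ᵁ V ≤ i ⁻¹ᵁ V := le_rfl
  letI := Groth.QCohMod.sectionsAlg i e₀
  letI : Module Γ(X, V) Γ((Scheme.Modules.pullback i).obj M, i ⁻¹ᵁ V) :=
    Module.compHom _ (i.appLE V (i ⁻¹ᵁ V) e₀).hom
  haveI : IsScalarTower Γ(X, V) Γ(Z, i ⁻¹ᵁ V) Γ((Scheme.Modules.pullback i).obj M, i ⁻¹ᵁ V) :=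
    IsScalarTower.of_algebraMap_smul fun _ _ => rfl
  have hbc := Groth.LocFree.isBaseChange_pullSecₗ i M e₀ hV (hV.preimage i)
  have halg : algebraMap Γ(X, V) Γ(Z, i ⁻¹ᵁ V) = (i.app V).hom := by
    show (i.appLE V (i ⁻¹ᵁ V) e₀).hom = _
    rw [Scheme.Hom.appLE_eq_app]
  have hx : Groth.LocFree.pullSecₗ i M e₀ x = pullSec i M x := Groth.PicAux.res_self _ _
  refine ⟨fun hm => ?_, fun hm => ?_⟩
  · have h1 : (1 : Γ(Z, i ⁻¹ᵁ V)) ⊗ₜ[Γ(X, V)] x = 0 := hbc.equiv.injective (by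
      rw [map_zero, IsBaseChange.equiv_tmul, one_smul, hx, hm])
    have hsurj : Function.Surjective (algebraMap Γ(X, V) Γ(Z, i ⁻¹ᵁ V)) := halg ▸ i.app_surjective V hV
    let K := RingHom.ker (algebraMap Γ(X, V) Γ(Z, i ⁻¹ᵁ V))
    let e : (Γ(X, V) ⧸ K) ≃ₐ[Γ(X, V)] Γ(Z, i ⁻¹ᵁ V) :=
      Ideal.quotientKerAlgEquivOfSurjective (f := Algebra.ofId Γ(X, V) Γ(Z, i ⁻¹ᵁ V)) hsurj
    have h2 : (1 : Γ(X, V) ⧸ K) ⊗ₜ[Γ(X, V)] x = 0 := by
      apply (TensorProduct.congr e.toLinearEquiv (LinearEquiv.refl _ Γ(M, V))).injective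
      rw [map_zero, TensorProduct.congr_tmul, LinearEquiv.refl_apply,
        show e.toLinearEquiv 1 = 1 from map_one e]
      exact h1
    have h3 := congrArg (TensorProduct.quotTensorEquivQuotSMul Γ(M, V) K) h2
    rw [map_zero, show (1 : Γ(X, V) ⧸ K) = Ideal.Quotient.mk K 1 from rfl,
      TensorProduct.quotTensorEquivQuotSMul_mk_tmul, one_smul, Submodule.Quotient.mk_eq_zero] at h3
    rwa [← halg]
  · rw [← hx]
    refine Submodule.smul_induction_on hm (fun r hr m _ => ?_) fun a b ha hb => by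
      rw [map_add, ha, hb, add_zero]
    have h0 : i.appLE V (i ⁻¹ᵁ V) e₀ r = 0 := by rw [Scheme.Hom.appLE_eq_app]; exact hr
    rw [map_smul]
    show (i.appLE V (i ⁻¹ᵁ V) e₀ r) • Groth.LocFree.pullSecₗ i M e₀ m = 0
    rw [h0, zero_smul]

section BC

variable {A A' Z Z' : Scheme.{u}} {π : A ⟶ Z} {π' : A' ⟶ Z'} {β : A ⟶ A'} {ι : Z ⟶ Z'}
  (w : β ≫ π' = π ≫ ι)

include w in
theorem preimage_le_bc (W : Z'.Opens) : π ⁻¹ᵁ (ι ⁻¹ᵁ W) ≤ β ⁻¹ᵁ (π' ⁻¹ᵁ W) := by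
  rw [← Scheme.Hom.comp_preimage, ← Scheme.Hom.comp_preimage, w]

/-- `π'_*O ⟶ ι_*π_*O` induced by `β`. -/
noncomputable def bcPush : pushO π' ⟶ (Scheme.Modules.pushforward ι).obj (pushO π) :=
  Groth.SpecFerrand.modHom
    (fun W (x : Γ(A', π' ⁻¹ᵁ W)) => (β.appLE (π' ⁻¹ᵁ W) (π ⁻¹ᵁ (ι ⁻¹ᵁ W)) (preimage_le_bc w W) x : Γ(A, _)))
    (fun W x y => map_add (β.appLE _ _ _).hom x y)
    (fun W r (x : Γ(A', π' ⁻¹ᵁ W)) => by
      show β.appLE (π' ⁻¹ᵁ W) (π ⁻¹ᵁ (ι ⁻¹ᵁ W)) _ (π'.app W r * x) =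
        π.app _ (ι.app W r) * β.appLE (π' ⁻¹ᵁ W) (π ⁻¹ᵁ (ι ⁻¹ᵁ W)) (preimage_le_bc w W) x
      rw [map_mul]
      congr 1
      simp only [Scheme.Hom.app_eq_appLE, ← CommRingCat.comp_apply, Scheme.Hom.appLE_comp_appLE, w])
    (fun W W' h x => by
      show (A'.presheaf.map (homOfLE (π'.preimage_mono h)).op ≫ β.appLE _ _ _) (x : Γ(A', π' ⁻¹ᵁ W)) =
        (β.appLE _ _ (preimage_le_bc w W) ≫ A.presheaf.map (homOfLE (π.preimage_mono (ι.preimage_mono h))).op) x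
      rw [Scheme.Hom.map_appLE, Scheme.Hom.appLE_map])

/-- The base change map. -/
noncomputable def bcMap : (Scheme.Modules.pullback ι).obj (pushO π') ⟶ pushO π :=
  ((Scheme.Modules.pullbackPushforwardAdjunction ι).homEquiv _ _).symm (bcPush w)

theorem bcMap_pullSec (W : Z'.Opens) (x : Γ(A', π' ⁻¹ᵁ W)) :
    (bcMap w).app (ι ⁻¹ᵁ W) (pullSec ι (pushO π') (x : Γ(pushO π', W))) =
      (β.appLE (π' ⁻¹ᵁ W) (π ⁻¹ᵁ (ι ⁻¹ᵁ W)) (preimage_le_bc w W) x : Γ(A, π ⁻¹ᵁ (ι ⁻¹ᵁ W))) := by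
  have h := ((Scheme.Modules.pullbackPushforwardAdjunction ι).homEquiv _ _).apply_symm_apply (bcPush w)
  rw [Adjunction.homEquiv_unit] at h
  exact congr(($h).app W x)

theorem isIso_bcMap (hpb : IsPullback β π π' ι) [IsClosedImmersion ι] [IsAffineHom π'] :
    IsIso (bcMap hpb.w) := by
  have hqc : (pushO π').IsQuasicoherent := by
    have : (Coh.structureModule A').IsQuasicoherent := Groth.Divisors.isQCoh_structureModule A'
    exact Groth.QCohMod.isQCoh_pushforward (M := Coh.structureModule A') π'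
  have hβ : IsClosedImmersion β := MorphismProperty.of_isPullback hpb.flip ‹IsClosedImmersion ι›
  have hker : β.ker = ι.ker.comap π' := by
    rw [← Scheme.IdealSheafData.ker_fst_of_isClosedImmersion ι π', ← hpb.isoPullback_hom_fst,
      Scheme.Hom.ker_comp_of_isIso]
  refine LocFree.isIso_of_small_affine _ fun z W hz => ?_
  obtain ⟨W', hW', hWW⟩ := ι.isClosedEmbedding.isInducing.isOpen_iff.1 W.2
  obtain ⟨V, hzV, hVW⟩ := LefSections.exists_affine_le (⟨W', hW'⟩ : Z'.Opens) (x := ι z)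
    (show ι z ∈ W' from by have : z ∈ ι ⁻¹' W' := by rw [hWW]; exact hz
                           exact this)
  refine ⟨ι ⁻¹ᵁ V.1, V.2.preimage ι, hzV, fun y hy => ?_, ?_⟩
  · have : y ∈ ι ⁻¹' W' := hVW hy
    rwa [hWW] at this
  have hP : β ⁻¹ᵁ (π' ⁻¹ᵁ V.1) = π ⁻¹ᵁ (ι ⁻¹ᵁ V.1) := by
    rw [← Scheme.Hom.comp_preimage, hpb.w, Scheme.Hom.comp_preimage]
  have happ : ∀ x, β.appLE (π' ⁻¹ᵁ V.1) (π ⁻¹ᵁ (ι ⁻¹ᵁ V.1)) (preimage_le_bc hpb.w V.1) x =
      A.presheaf.map (eqToHom hP.symm).op (β.app (π' ⁻¹ᵁ V.1) x) := fun x => rfl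
  have hz' : ∀ x : Γ(pushO π', V.1), (bcMap hpb.w).app (ι ⁻¹ᵁ V.1) (pullSec ι _ x) = 0 →
      pullSec ι (pushO π') x = 0 := fun x hx => by
    rw [bcMap_pullSec] at hx
    rw [pullSec_eq_zero_iff ι _ V.2]
    have h1 : β.app (π' ⁻¹ᵁ V.1) (x : Γ(A', π' ⁻¹ᵁ V.1)) = 0 :=
      (ConcreteCategory.bijective_of_isIso (A.presheaf.map (eqToHom hP.symm).op)).1
        ((happ x).symm.trans (hx.trans (map_zero _).symm))
    have h2 : (x : Γ(A', π' ⁻¹ᵁ V.1)) ∈ β.ker.ideal ⟨π' ⁻¹ᵁ V.1, V.2.preimage π'⟩ := by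
      rw [Scheme.Hom.ker_apply]; exact h1
    rw [hker, Groth.BlowUpBasics.ideal_comap π' ι.ker V ⟨_, V.2.preimage π'⟩ le_rfl,
      Scheme.Hom.appLE_eq_app, Scheme.Hom.ker_apply] at h2
    exact (LefSections.mem_smul_top_iff_map (M := Γ(pushO π', V.1)) (π'.app V.1).hom _
      { toFun := fun z => z, invFun := fun z => z, left_inv := fun _ => rfl, right_inv := fun _ => rfl
        map_add' := fun _ _ => rfl } (fun _ _ => rfl) x).2 h2
  refine ⟨(injective_iff_map_eq_zero ((bcMap hpb.w).app (ι ⁻¹ᵁ V.1)).hom).2 fun y hy => ?_, fun t => ?_⟩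
  · obtain ⟨x, rfl⟩ := SpecFerrand.pullSec_surjective ι (pushO π') V.2 y
    exact hz' x hy
  · obtain ⟨x, hx⟩ := β.app_surjective _ (V.2.preimage π')
      ((inv (A.presheaf.map (eqToHom hP.symm).op)) (t : Γ(A, π ⁻¹ᵁ (ι ⁻¹ᵁ V.1))))
    refine ⟨pullSec ι (pushO π') (x : Γ(pushO π', V.1)), ?_⟩
    refine (bcMap_pullSec hpb.w V.1 x).trans ?_
    refine ((happ x).trans (congrArg _ hx)).trans ?_
    exact congr($(IsIso.inv_hom_id (A.presheaf.map (eqToHom hP.symm).op)) t)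

end BC

end Groth.LefAlg
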