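import Groth.Agent.LefAlg.Multi

/-!
# The multiplication of a finite locally free module with compatible ring structures modulo powers of an ideal
-/

universe u

set_option autoImplicit false
set_option backward.isDefEq.respectTransparency false

open CategoryTheory AlgebraicGeometry Opposite TopologicalSpace
open Groth.RefRank (secToLin secToLin_res)
open Groth.LefSections (InPow pushO)

namespace Groth.LefAlg

local notation "ρ" => Groth.QCohMod.res

variable {U : Scheme.{u}}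

/-- The section of `B` given by a map into a direct image. -/
noncomputable def toB {E : U.Modules} {B : Scheme.{u}} {q : B ⟶ U} (g : E ⟶ pushO q) (W : U.Opens) :
    Γ(E, W) →+ Γ(B, q ⁻¹ᵁ W) where
  toFun x := g.app W x
  map_zero' := map_zero (g.app W).hom
  map_add' := map_add (g.app W).hom

theorem toB_smul {E : U.Modules} {B : Scheme.{u}} {q : B ⟶ U} (g : E ⟶ pushO q) {W : U.Opens} (r : Γ(U, W))
    (x : Γ(E, W)) : toB g W (r • x) = q.app W r * toB g W x :=
  Scheme.Modules.Hom.app_smul g r x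

theorem toB_res {E : U.Modules} {B : Scheme.{u}} {q : B ⟶ U} (g : E ⟶ pushO q) {W W' : U.Opens} (h : W' ≤ W)
    (x : Γ(E, W)) :
    toB g W' (ρ E h x) = B.presheaf.map (homOfLE (q.preimage_mono h)).op (toB g W x) :=
  LefSections.app_ρ g h x

/-- A finite locally free module whose reductions modulo the powers of `J` are compatibly the algebras of
schemes `B n` over `U`. -/
structure Formal (J : U.IdealSheafData) (E : U.Modules) {B : ℕ → Scheme.{u}} (q : ∀ n, B n ⟶ U)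
    (g : ∀ n, E ⟶ pushO (q n)) : Prop where
  bij : ∀ D : U.Modules, FlatMod.IsFinLocFree D → Lef.HomToFormalBijective J D
  locFree : FlatMod.IsFinLocFree E
  surj : ∀ (n : ℕ) (V : U.affineOpens), Function.Surjective (toB (g n) V.1)
  ker : ∀ (n : ℕ) (V : U.affineOpens) (x : Γ(E, V.1)), toB (g n) V.1 x = 0 ↔ InPow J E n V x
  trans : ∀ (n : ℕ) (V : U.affineOpens), ∃ χ : Γ(B (n + 1), q (n + 1) ⁻¹ᵁ V.1) →+* Γ(B n, q n ⁻¹ᵁ V.1),
    ∀ x, χ (toB (g (n + 1)) V.1 x) = toB (g n) V.1 x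

/-- The sheaf of bilinear maps. -/
noncomputable abbrev bilSh (E : U.Modules) : U.Modules := RefHull.homSh E (RefHull.homSh E E)

variable {J : U.IdealSheafData} {E : U.Modules} {B : ℕ → Scheme.{u}} {q : ∀ n, B n ⟶ U}
  {g : ∀ n, E ⟶ pushO (q n)}

theorem Formal.inPow_sub (hF : Formal J E q g) {n : ℕ} {V : U.affineOpens} (x y : Γ(E, V.1)) :
    InPow J E n V (x - y) ↔ toB (g n) V.1 x = toB (g n) V.1 y := by
  rw [← hF.ker, map_sub, sub_eq_zero]

/-- `b` induces the product modulo `J ^ (n + 1)`. -/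
def IsMul (g : ∀ n, E ⟶ pushO (q n)) (n : ℕ) {W : U.Opens}
    (b : Γ(E, W) →ₗ[Γ(U, W)] Γ(E, W) →ₗ[Γ(U, W)] Γ(E, W)) : Prop :=
  ∀ x y, toB (g n) W (b x y) = toB (g n) W x * toB (g n) W y

theorem Formal.exists_isMul (hF : Formal J E q g) (n : ℕ) (V : U.affineOpens) :
    ∃ b : Γ(E, V.1) →ₗ[Γ(U, V.1)] Γ(E, V.1) →ₗ[Γ(U, V.1)] Γ(E, V.1), IsMul g n b := by
  obtain ⟨_, _⟩ := LocFree.finite_projective_sections hF.locFree V.2
  letI := ((q n).app V.1).hom.toAlgebra
  let L : Γ(E, V.1) →ₗ[Γ(U, V.1)] Γ(B n, q n ⁻¹ᵁ V.1) :=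
    { toFun := toB (g n) V.1
      map_add' := map_add _
      map_smul' := fun r x => by rw [toB_smul, RingHom.id_apply, Algebra.smul_def]; rfl }
  let Ψ := (LinearMap.mul Γ(U, V.1) Γ(B n, q n ⁻¹ᵁ V.1)).compl₁₂ L L
  have hL : Function.Surjective (LinearMap.compRight Γ(U, V.1) (M := Γ(E, V.1)) L) := fun f => by
    obtain ⟨h, hh⟩ := Module.projective_lifting_property L f (hF.surj n V)
    exact ⟨h, hh⟩
  obtain ⟨b, hb⟩ := Module.projective_lifting_property (LinearMap.compRight Γ(U, V.1) (M := Γ(E, V.1)) L) Ψ hL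
  exact ⟨b, fun x y => LinearMap.congr_fun (LinearMap.congr_fun hb x) y⟩

theorem ap2_isMul_res (hF : Formal J E q g) {n : ℕ} {V V' : U.affineOpens} (h : V'.1 ≤ V.1)
    {s : Γ(bilSh E, V.1)} (hs : IsMul g n (ap2 s)) : IsMul g n (ap2 (ρ (bilSh E) h s)) := by
  letI := ((q n).app V'.1).hom.toAlgebra
  let L : Γ(E, V'.1) →ₗ[Γ(U, V'.1)] Γ(B n, q n ⁻¹ᵁ V'.1) :=
    { toFun := toB (g n) V'.1
      map_add' := map_add _
      map_smul' := fun r x => by rw [toB_smul, RingHom.id_apply, Algebra.smul_def]; rfl }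
  have hsp := span_res_top hF.locFree h
  have e : (LinearMap.compRight Γ(U, V'.1) L) ∘ₗ ap2 (ρ (bilSh E) h s) =
      (LinearMap.mul Γ(U, V'.1) Γ(B n, q n ⁻¹ᵁ V'.1)).compl₁₂ L L := by
    refine LinearMap.ext_on_range hsp fun x => LinearMap.ext_on_range hsp fun y => ?_
    show toB (g n) V'.1 (ap2 (ρ (bilSh E) h s) (ρ E h x) (ρ E h y)) =
      toB (g n) V'.1 (ρ E h x) * toB (g n) V'.1 (ρ E h y)
    rw [ap2_res, toB_res, hs, map_mul, toB_res, toB_res]
  exact fun x y => LinearMap.congr_fun (LinearMap.congr_fun e x) y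

theorem isMul_succ (hF : Formal J E q g) {n : ℕ} {V : U.affineOpens}
    {b : Γ(E, V.1) →ₗ[Γ(U, V.1)] Γ(E, V.1) →ₗ[Γ(U, V.1)] Γ(E, V.1)} (hb : IsMul g (n + 1) b) :
    IsMul g n b := fun x y => by
  obtain ⟨χ, hχ⟩ := hF.trans n V
  rw [← hχ, hb, map_mul, hχ, hχ]

theorem Formal.exists_mul (hF : Formal J E q g) :
    ∃ μ : Γ(bilSh E, ⊤), ∀ (n : ℕ) (V : U.affineOpens), IsMul g n (ap2 (ρ (bilSh E) le_top μ : Γ(bilSh E, V.1))) := by
  have := KTheory.LocFree.isQCoh hF.locFree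
  have hE2 := LocFree.isFinLocFree_homSh hF.locFree (LocFree.isFinLocFree_homSh hF.locFree hF.locFree)
  choose b hb using hF.exists_isMul
  choose s hs using fun n V => ap2_surjective (F := E) (G := E) V (b n V)
  have hm : ∀ n V, IsMul g n (ap2 (s n V)) := fun n V => by rw [hs]; exact hb n V
  obtain ⟨μ, hμ⟩ := LefSections.exists_section hE2
    (hF.bij _ (LocFree.isFinLocFree_homSh hE2 (LocFree.isFinLocFree_unit U))) s
    (fun n V V' hle => (inPow_ap2_iff hF.locFree hF.locFree _).2 fun x y => by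
      rw [ap2_sub, hF.inPow_sub, ap2_isMul_res hF hle (hm n V) x y, hm])
    (fun n V => (inPow_ap2_iff hF.locFree hF.locFree _).2 fun x y => by
      rw [ap2_sub, hF.inPow_sub, isMul_succ hF (hm (n + 1) V) x y, hm])
  refine ⟨μ, fun n V x y => ?_⟩
  have := (inPow_ap2_iff hF.locFree hF.locFree _).1 (hμ n V) x y
  rw [ap2_sub, hF.inPow_sub] at this
  exact this.trans (hm n V x y)

theorem Formal.exists_one (hF : Formal J E q g) :
    ∃ ε : Γ(E, ⊤), ∀ (n : ℕ) (V : U.affineOpens), toB (g n) V.1 (ρ E le_top ε) = 1 := by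
  choose e he using fun n V => hF.surj n V 1
  obtain ⟨ε, hε⟩ := LefSections.exists_section hF.locFree
    (hF.bij _ (LocFree.isFinLocFree_homSh hF.locFree (LocFree.isFinLocFree_unit U))) e
    (fun n V V' hle => by rw [hF.inPow_sub, toB_res, he, he, map_one])
    (fun n V => by
      obtain ⟨χ, hχ⟩ := hF.trans n V
      rw [hF.inPow_sub, ← hχ, he, map_one, he])
  exact ⟨ε, fun n V => ((hF.inPow_sub _ _).1 (hε n V)).trans (he n V)⟩

/-- The product of two sections given by a global bilinear map. -/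
noncomputable def mulSec (μ : Γ(bilSh E, ⊤)) (W : U.Opens) :
    Γ(E, W) →ₗ[Γ(U, W)] Γ(E, W) →ₗ[Γ(U, W)] Γ(E, W) :=
  ap2 (ρ (bilSh E) le_top μ)

theorem mulSec_res (μ : Γ(bilSh E, ⊤)) {W W' : U.Opens} (h : W' ≤ W) (x y : Γ(E, W)) :
    mulSec μ W' (ρ E h x) (ρ E h y) = ρ E h (mulSec μ W x y) := by
  show ap2 _ _ _ = ρ E h (ap2 _ x y)
  rw [← ap2_res, QCohMod.res_res]

section Laws

variable (hF : Formal J E q g) {μ : Γ(bilSh E, ⊤)}
  (hμ : ∀ (n : ℕ) (V : U.affineOpens), IsMul g n (mulSec μ V.1))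
include hF hμ

theorem mulSec_comm (W : U.Opens) (x y : Γ(E, W)) : mulSec μ W x y = mulSec μ W y x := by
  have h := bil_eq_zero hF.bij hF.locFree hF.locFree hF.locFree
    (fun V => mulSec μ V.1 - (mulSec μ V.1).flip)
    (fun V V' hle x y => by
      simp only [LinearMap.sub_apply, LinearMap.flip_apply, map_sub, mulSec_res])
    (fun n V x y => by
      show InPow J E n V (mulSec μ V.1 x y - mulSec μ V.1 y x)
      rw [hF.inPow_sub, hμ, hμ, mul_comm])
  refine LefSections.section_ext_affine E fun V hV => ?_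
  rw [← mulSec_res, ← mulSec_res]
  exact sub_eq_zero.1 (LinearMap.congr_fun (LinearMap.congr_fun (h V) _) _)

theorem mulSec_assoc (W : U.Opens) (x y z : Γ(E, W)) :
    mulSec μ W (mulSec μ W x y) z = mulSec μ W x (mulSec μ W y z) := by
  have := KTheory.LocFree.isQCoh hF.locFree
  let t : ∀ V : U.affineOpens, Γ(E, V.1) →ₗ[Γ(U, V.1)] Γ(E, V.1) →ₗ[Γ(U, V.1)] Γ(E, V.1) →ₗ[Γ(U, V.1)] Γ(E, V.1) :=
    fun V => (LinearMap.compRight Γ(U, V.1) (mulSec μ V.1)) ∘ₗ mulSec μ V.1 -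
      (LinearMap.lcomp Γ(U, V.1) (Γ(E, V.1) →ₗ[Γ(U, V.1)] Γ(E, V.1)) (mulSec μ V.1)) ∘ₗ
        (LinearMap.llcomp Γ(U, V.1) Γ(E, V.1) Γ(E, V.1) Γ(E, V.1)) ∘ₗ mulSec μ V.1
  have tap : ∀ (V : U.affineOpens) (a b c : Γ(E, V.1)), t V a b c =
      mulSec μ V.1 (mulSec μ V.1 a b) c - mulSec μ V.1 a (mulSec μ V.1 b c) := fun V a b c => rfl
  let d : ∀ V : U.affineOpens, Γ(E, V.1) →ₗ[Γ(U, V.1)] Γ(E, V.1) →ₗ[Γ(U, V.1)] Γ(RefHull.homSh E E, V.1) :=
    fun V => (LinearMap.llcomp Γ(U, V.1) Γ(E, V.1) (Γ(E, V.1) →ₗ[Γ(U, V.1)] Γ(E, V.1))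
      Γ(RefHull.homSh E E, V.1) (RefRank.secLinEquiv V.2).symm.toLinearMap) ∘ₗ t V
  have dap : ∀ (V : U.affineOpens) (a b c : Γ(E, V.1)), secToLin (d V a b) c = t V a b c := fun V a b c =>
    LinearMap.congr_fun (secToLin_symm V.2 (t V a b)) c
  have h := bil_eq_zero hF.bij hF.locFree hF.locFree (LocFree.isFinLocFree_homSh hF.locFree hF.locFree) d
    (fun V V' hle a b => RefRank.secToLin_injective V'.2
      (LinearMap.ext_on_range (span_res_top hF.locFree hle) fun c => by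
        rw [dap, secToLin_res, dap, tap, tap, map_sub]
        simp only [mulSec_res]))
    (fun n V a b => (inPow_homSh_iff hF.locFree _).2 fun c => by
      rw [dap, tap, hF.inPow_sub, hμ, hμ, hμ, hμ, mul_assoc])
  refine LefSections.section_ext_affine E fun V hV => ?_
  simp only [← mulSec_res]
  refine sub_eq_zero.1 ((tap V _ _ _).symm.trans ?_)
  rw [← dap, h V]
  show secToLin (0 : Γ(RefHull.homSh E E, V.1)) _ = 0
  rw [show secToLin (0 : Γ(RefHull.homSh E E, V.1)) = 0 from (RefRank.secLinEquiv V.2).map_zero]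
  rfl

theorem mulSec_one {ε : Γ(E, ⊤)} (hε : ∀ (n : ℕ) (V : U.affineOpens), toB (g n) V.1 (ρ E le_top ε) = 1)
    (W : U.Opens) (x : Γ(E, W)) : mulSec μ W (ρ E le_top ε) x = x := by
  have h := lin_eq_zero hF.bij hF.locFree hF.locFree
    (fun V => mulSec μ V.1 (ρ E le_top ε) - LinearMap.id)
    (fun V V' hle x => by
      simp only [LinearMap.sub_apply, LinearMap.id_apply, map_sub]
      rw [← mulSec_res, QCohMod.res_res])
    (fun n V x => by
      show InPow J E n V (mulSec μ V.1 (ρ E le_top ε) x - x)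
      rw [hF.inPow_sub, hμ, hε, one_mul])
  refine LefSections.section_ext_affine E fun V hV => ?_
  rw [← mulSec_res, QCohMod.res_res]
  exact sub_eq_zero.1 (LinearMap.congr_fun (h V) _)

end Laws

end Groth.LefAlg
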