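import Groth.Agent.LefAlg.Levels
import Groth.Agent.LefAlg.Mul
import Groth.Agent.LefVanish.Reduce

/-!
# A finite etale cover of the closed subscheme gives a formal algebra near it
-/

universe u

set_option autoImplicit false
set_option backward.isDefEq.respectTransparency false
set_option backward.defeqAttrib.useBackward true
set_option maxHeartbeats 1000000

open CategoryTheory CategoryTheory.Limits AlgebraicGeometry Opposite TopologicalSpace
open Groth.PicAux (pullSec pullSec_map pullSec_comp)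
open Groth.LefSections (pushO InPow)

namespace Groth.LefAlg

variable {X : Scheme.{u}} (I : X.IdealSheafData)

/-- The inclusion of `V(I)` in the first level. -/
noncomputable def zeroIncl : I.subscheme ⟶ (FSch.completionAlong X I).X 0 :=
  Scheme.IdealSheafData.inclusion (le_of_eq (pow_one I))

theorem zeroIncl_ι : zeroIncl I ≫ (FSch.completionToX X I 0) = I.subschemeι :=
  Scheme.IdealSheafData.inclusion_subschemeι _

/-- Lifts of a cover of `V(I)` to all thickenings. -/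
structure Tower (R : FEt.Cat I.subscheme) where
  B : ℕ → Scheme.{u}
  π : ∀ n, B n ⟶ ((FSch.completionAlong X I).X n)
  prop : ∀ n, FEt.prop (π n)
  β : ∀ n, B n ⟶ B (n + 1)
  pb : ∀ n, IsPullback (β n) (π n) (π (n + 1)) ((FSch.completionAlong X I).ι n)
  β₀ : R.left ⟶ B 0
  pb₀ : IsPullback β₀ R.hom (π 0) (zeroIncl I)

theorem surjective_inclusion {K L : X.IdealSheafData} (h : K ≤ L) (hs : K.support = L.support) :
    Surjective (Scheme.IdealSheafData.inclusion h) := ⟨fun z => by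
  obtain ⟨y, hy⟩ : K.subschemeι z ∈ Set.range L.subschemeι := by
    rw [Scheme.IdealSheafData.range_subschemeι, ← hs, ← Scheme.IdealSheafData.range_subschemeι]
    exact ⟨z, rfl⟩
  refine ⟨y, K.subschemeι.injective ?_⟩
  rw [← hy]
  exact congrArg (fun f => f y) (Scheme.IdealSheafData.inclusion_subschemeι h)⟩

theorem lifts_inclusion {K L : X.IdealSheafData} (h : K ≤ L) (hs : K.support = L.support) :
    Pi1Inv.Lifts (Scheme.IdealSheafData.inclusion h) := by
  have := surjective_inclusion h hs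
  have : IsClosedImmersion (Scheme.IdealSheafData.inclusion h) := by
    have : IsClosedImmersion (Scheme.IdealSheafData.inclusion h ≫ K.subschemeι) := by
      rw [Scheme.IdealSheafData.inclusion_subschemeι]; infer_instance
    exact IsClosedImmersion.of_comp _ K.subschemeι
  have := Pi1Inv.isEquivalence_of_thickening (Scheme.IdealSheafData.inclusion h)
  exact Pi1Inv.lifts_of_essSurj _

theorem nonempty_tower (R : FEt.Cat I.subscheme) : Nonempty (Tower I R) := by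
  have h0 : Pi1Inv.Lifts (zeroIncl I) := lifts_inclusion _ (by rw [pow_one])
  obtain ⟨A₀, β₀, hβ₀⟩ := h0 R
  have hs : ∀ n, Pi1Inv.Lifts (((FSch.completionAlong X I).ι n)) := fun n => lifts_inclusion _ (by
    rw [Scheme.IdealSheafData.support_pow_succ, Scheme.IdealSheafData.support_pow_succ])
  choose f β hβ using hs
  let A : ∀ n, FEt.Cat (((FSch.completionAlong X I).X n)) := fun n =>
    Nat.rec (motive := fun n => FEt.Cat (((FSch.completionAlong X I).X n))) A₀ f n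
  exact ⟨⟨fun n => (A n).left, fun n => (A n).hom, fun n => (A n).prop, fun n => β n (A n),
    fun n => hβ n (A n), β₀, hβ₀⟩⟩

variable {I} {R : FEt.Cat I.subscheme} (T : Tower I R)

instance (n : ℕ) : IsFinite (T.π n) := (T.prop n).1
instance (n : ℕ) : Etale (T.π n) := (T.prop n).2

noncomputable section

/-- The system of modules of a tower. -/
def Tower.sys : FSch.ModSys (FSch.completionAlong X I) where
  F n := pushO (T.π n)
  e n :=
    have : IsClosedImmersion (((FSch.completionAlong X I).ι n)) := by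
      have : IsClosedImmersion (((FSch.completionAlong X I).ι n) ≫ (FSch.completionToX X I (n + 1))) := by
        show IsClosedImmersion (Scheme.IdealSheafData.inclusion _ ≫ (FSch.completionToX X I (n + 1)))
        rw [Scheme.IdealSheafData.inclusion_subschemeι]; infer_instance
      exact IsClosedImmersion.of_comp _ ((FSch.completionToX X I (n + 1)))
    have := isIso_bcMap (T.pb n)
    asIso (bcMap (T.pb n).w)

theorem Tower.sys_locFree : LefX.LevelwiseFinLocFree T.sys := fun n =>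
  Groth.RefRank.push_isFinLocFree (T.π n)

variable {U : Scheme.{u}} (v : U ⟶ X) [IsOpenImmersion v] (hU : (I.support : Set X) ⊆ Set.range v)

/-- The level in `U`. -/
def levIncl (n : ℕ) : ((FSch.completionAlong X I).X n) ⟶ U :=
  IsOpenImmersion.lift v (FSch.completionToX X I n) (by
    show Set.range (I ^ (n + 1)).subschemeι ⊆ Set.range v
    rw [Scheme.IdealSheafData.range_subschemeι, Scheme.IdealSheafData.support_pow_succ]
    exact hU)

@[reassoc]
theorem levIncl_ι (n : ℕ) : levIncl v hU n ≫ v = (FSch.completionToX X I n) :=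
  IsOpenImmersion.lift_fac _ _ _

theorem ι_levIncl (n : ℕ) : ((FSch.completionAlong X I).ι n) ≫ levIncl v hU (n + 1) = levIncl v hU n := by
  rw [← cancel_mono v, Category.assoc, levIncl_ι, levIncl_ι]
  exact Scheme.IdealSheafData.inclusion_subschemeι _

instance isClosedImmersion_levIncl (n : ℕ) : IsClosedImmersion (levIncl v hU n) := by
  have : IsClosedImmersion (levIncl v hU n ≫ v) := by rw [levIncl_ι]; infer_instance
  exact IsClosedImmersion.of_comp _ v

theorem ker_levIncl (n : ℕ) : (levIncl v hU n).ker = (I.comap v) ^ (n + 1) := by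
  have hj : IsPullback (levIncl v hU n) (𝟙 _) v (FSch.completionToX X I n) :=
    IsPullback.of_iso (IsPullback.of_vert_isIso_mono (fst := levIncl v hU n) (snd := 𝟙 _) (f := v)
      (g := FSch.completionToX X I n) ⟨by rw [levIncl_ι, Category.id_comp]⟩)
      (Iso.refl _) (Iso.refl _) (Iso.refl _) (Iso.refl _) (by simp) (by simp) (by simp) (by simp)
  rw [← hj.isoPullback_hom_fst, Scheme.Hom.ker_comp_of_isIso]
  exact (Scheme.IdealSheafData.ker_fst_of_isClosedImmersion (I ^ (n + 1)).subschemeι v).trans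
    (by rw [Scheme.IdealSheafData.ker_subschemeι, Divisors.comap_pow])

/-- The map of the level to `U`. -/
def Tower.q (n : ℕ) : (T.B n) ⟶ U := (T.π n) ≫ levIncl v hU n

instance (n : ℕ) : IsAffineHom (T.q v hU n) := by
  unfold Tower.q; infer_instance

theorem Tower.β_q (n : ℕ) : T.β n ≫ T.q v hU (n + 1) = T.q v hU n := by
  unfold Tower.q
  rw [(T.pb n).w_assoc, ι_levIncl]

theorem Tower.preimage_q (n : ℕ) (W : U.Opens) :
    T.q v hU n ⁻¹ᵁ W ≤ T.β n ⁻¹ᵁ (T.q v hU (n + 1) ⁻¹ᵁ W) := by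
  rw [← Scheme.Hom.comp_preimage, T.β_q]

omit T in
/-- `C` is the transition map on pulled back sections. -/
def IsTrans {Z Z' : Scheme.{u}} {ι : Z ⟶ Z'} {i : Z ⟶ X} {i' : Z' ⟶ X} (e : ι ≫ i' = i) {M : X.Modules}
    (C : (Scheme.Modules.pullback ι).obj ((Scheme.Modules.pullback i').obj M) ⟶ (Scheme.Modules.pullback i).obj M) :
    Prop :=
  ∀ (W : X.Opens) (y : Γ(M, W)), C.app (ι ⁻¹ᵁ (i' ⁻¹ᵁ W)) (pullSec ι _ (pullSec i' M y)) =
    Groth.PicAux.res ((Scheme.Modules.pullback i).obj M)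
      (show ι ⁻¹ᵁ (i' ⁻¹ᵁ W) ≤ i ⁻¹ᵁ W by rw [← Scheme.Hom.comp_preimage, e]) (pullSec i M y)

omit T in
theorem isTrans_comp {Z Z' : Scheme.{u}} {ι : Z ⟶ Z'} {i : Z ⟶ X} {i' : Z' ⟶ X} (e : ι ≫ i' = i) (M : X.Modules) :
    IsTrans e ((Scheme.Modules.pullbackComp ι i').app M ≪≫ (Scheme.Modules.pullbackCongr e).app M).hom :=
  fun W y => by
  show ((Scheme.Modules.pullbackCongr e).app M).hom.app _
    (((Scheme.Modules.pullbackComp ι i').hom.app M).app _ (pullSec ι _ (pullSec i' M y))) = _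
  rw [pullSec_comp]
  exact Groth.SpecFerrand.pullbackCongr_pullSec e M y (by rw [e])

omit T in
theorem comm_aux {A A' Z Z' : Scheme.{u}} {π : A ⟶ Z} {π' : A' ⟶ Z'} {β : A ⟶ A'} {ι : Z ⟶ Z'}
    (w : β ≫ π' = π ≫ ι) {i : Z ⟶ X} {i' : Z' ⟶ X} (e : ι ≫ i' = i) {M : X.Modules}
    (a : (Scheme.Modules.pullback i).obj M ⟶ pushO π) (a' : (Scheme.Modules.pullback i').obj M ⟶ pushO π')
    {C : (Scheme.Modules.pullback ι).obj ((Scheme.Modules.pullback i').obj M) ⟶ (Scheme.Modules.pullback i).obj M}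
    (hC : IsTrans e C) (h : (Scheme.Modules.pullback ι).map a' ≫ bcMap w = C ≫ a)
    (W : X.Opens) (y : Γ(M, W)) :
    β.appLE (π' ⁻¹ᵁ (i' ⁻¹ᵁ W)) (π ⁻¹ᵁ (ι ⁻¹ᵁ (i' ⁻¹ᵁ W))) (preimage_le_bc w _)
        (a'.app _ (pullSec i' M y)) =
      Groth.PicAux.res (pushO π)
        (show ι ⁻¹ᵁ (i' ⁻¹ᵁ W) ≤ i ⁻¹ᵁ W by rw [← Scheme.Hom.comp_preimage, e])
        (a.app (i ⁻¹ᵁ W) (pullSec i M y)) := by
  have h1 : (bcMap w).app (ι ⁻¹ᵁ (i' ⁻¹ᵁ W))
      (((Scheme.Modules.pullback ι).map a').app _ (pullSec ι _ (pullSec i' M y))) =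
      a.app (ι ⁻¹ᵁ (i' ⁻¹ᵁ W)) (C.app _ (pullSec ι _ (pullSec i' M y))) :=
    congr(($h).app (ι ⁻¹ᵁ (i' ⁻¹ᵁ W)) (pullSec ι _ (pullSec i' M y)))
  rw [pullSec_map] at h1
  erw [bcMap_pullSec] at h1
  rw [hC W y] at h1
  exact h1.trans (Groth.PicAux.app_res a _ _)

variable {M : X.Modules}

section Generic

variable {A A' Z Z' U₁ : Scheme.{u}} {π : A ⟶ Z} {π' : A' ⟶ Z'} {β : A ⟶ A'} {ι : Z ⟶ Z'}
  {j : Z ⟶ U₁} {j' : Z' ⟶ U₁} {u₁ : U₁ ⟶ X} {i : Z ⟶ X} {i' : Z' ⟶ X}

omit T in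
/-- A map out of the restriction to `Z`, seen from `U₁`. -/
def redHom (π : A ⟶ Z) (hj : j ≫ u₁ = i) (a : (Scheme.Modules.pullback i).obj M ⟶ pushO π) :
    (Scheme.Modules.pullback u₁).obj M ⟶ pushO (π ≫ j) :=
  (Scheme.Modules.pullbackPushforwardAdjunction j).homEquiv _ _
      (((Scheme.Modules.pullbackComp j u₁).app M ≪≫ (Scheme.Modules.pullbackCongr hj).app M).hom ≫ a) ≫
    (Scheme.Modules.pushforwardComp π j).hom.app _

omit T in
theorem redHom_app (hj : j ≫ u₁ = i) (a : (Scheme.Modules.pullback i).obj M ⟶ pushO π) (W : U₁.Opens)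
    (z : Γ((Scheme.Modules.pullback u₁).obj M, W)) :
    (redHom π hj a).app W z =
      (((Scheme.Modules.pullbackComp j u₁).app M ≪≫ (Scheme.Modules.pullbackCongr hj).app M).hom ≫ a).app
        (j ⁻¹ᵁ W) (pullSec j _ z) := by
  rw [redHom, Adjunction.homEquiv_unit]
  rfl

omit T in
theorem redHom_pullSec (hj : j ≫ u₁ = i) (a : (Scheme.Modules.pullback i).obj M ⟶ pushO π) (W : X.Opens)
    (y : Γ(M, W)) :
    (redHom π hj a).app (u₁ ⁻¹ᵁ W) (pullSec u₁ M y) =
      Groth.PicAux.res (pushO π)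
        (show j ⁻¹ᵁ (u₁ ⁻¹ᵁ W) ≤ i ⁻¹ᵁ W by rw [← Scheme.Hom.comp_preimage, hj])
        (a.app (i ⁻¹ᵁ W) (pullSec i M y)) := by
  rw [redHom_app]
  show a.app _ (((Scheme.Modules.pullbackCongr hj).app M).hom.app _
    (((Scheme.Modules.pullbackComp j u₁).hom.app M).app (j ⁻¹ᵁ u₁ ⁻¹ᵁ W) (pullSec _ _ (pullSec u₁ M y)))) = _
  rw [pullSec_comp]
  erw [Groth.SpecFerrand.pullbackCongr_pullSec hj M y (by rw [hj])]
  exact Groth.PicAux.app_res a _ _

omit T in
theorem preimage_push {q : A ⟶ U₁} {q' : A' ⟶ U₁} (hq : β ≫ q' = q) (W : U₁.Opens) :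
    q ⁻¹ᵁ W ≤ β ⁻¹ᵁ (q' ⁻¹ᵁ W) := by
  rw [← Scheme.Hom.comp_preimage, hq]

omit T in
/-- `β^♯` between direct images. -/
def pushBeta {q : A ⟶ U₁} {q' : A' ⟶ U₁} (hq : β ≫ q' = q) : pushO q' ⟶ pushO q :=
  Groth.SpecFerrand.modHom
    (fun W (x : Γ(A', q' ⁻¹ᵁ W)) => (β.appLE _ _ (preimage_push hq W) x : Γ(A, q ⁻¹ᵁ W)))
    (fun W x y => map_add (β.appLE _ _ _).hom x y)
    (fun W r (x : Γ(A', q' ⁻¹ᵁ W)) => by
      show β.appLE _ _ (preimage_push hq W) (q'.app W r * x) =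
        q.app W r * β.appLE _ _ (preimage_push hq W) x
      rw [map_mul]
      congr 1
      simp only [Scheme.Hom.app_eq_appLE, ← CommRingCat.comp_apply, Scheme.Hom.appLE_comp_appLE, hq])
    (fun W W' h x => by
      show (A'.presheaf.map (homOfLE (q'.preimage_mono h)).op ≫ β.appLE _ _ (preimage_push hq W'))
          (x : Γ(A', q' ⁻¹ᵁ W)) =
        (β.appLE _ _ (preimage_push hq W) ≫ A.presheaf.map (homOfLE (q.preimage_mono h)).op) x
      rw [Scheme.Hom.map_appLE, Scheme.Hom.appLE_map])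

omit T in
theorem redHom_pushBeta (w : β ≫ π' = π ≫ ι) (hq : β ≫ π' ≫ j' = π ≫ j) (hι : ι ≫ i' = i) (hj : j ≫ u₁ = i)
    (hj' : j' ≫ u₁ = i') (hjj : ι ≫ j' = j) (a : (Scheme.Modules.pullback i).obj M ⟶ pushO π)
    (a' : (Scheme.Modules.pullback i').obj M ⟶ pushO π')
    {C : (Scheme.Modules.pullback ι).obj ((Scheme.Modules.pullback i').obj M) ⟶ (Scheme.Modules.pullback i).obj M}
    (hC : IsTrans hι C) (h : (Scheme.Modules.pullback ι).map a' ≫ bcMap w = C ≫ a) :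
    redHom π' hj' a' ≫ pushBeta (q := π ≫ j) (q' := π' ≫ j') hq = redHom π hj a := by
  refine Groth.SpecFerrand.pullback_hom_ext u₁ fun W y => ?_
  show (pushBeta (q := π ≫ j) (q' := π' ≫ j') hq).app _ ((redHom π' hj' a').app (u₁ ⁻¹ᵁ W) (pullSec u₁ M y)) = _
  rw [redHom_pullSec, redHom_pullSec]
  let z : Γ(A', π' ⁻¹ᵁ (i' ⁻¹ᵁ W)) := a'.app _ (pullSec i' M y)
  have hle : π' ⁻¹ᵁ (j' ⁻¹ᵁ (u₁ ⁻¹ᵁ W)) ≤ π' ⁻¹ᵁ (i' ⁻¹ᵁ W) := by
    rw [← Scheme.Hom.comp_preimage j', hj']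
  have hle2 : ι ⁻¹ᵁ (j' ⁻¹ᵁ (u₁ ⁻¹ᵁ W)) = j ⁻¹ᵁ (u₁ ⁻¹ᵁ W) := by
    rw [← Scheme.Hom.comp_preimage ι, hjj]
  have hle3 : j ⁻¹ᵁ (u₁ ⁻¹ᵁ W) ≤ ι ⁻¹ᵁ (i' ⁻¹ᵁ W) := by
    rw [← Scheme.Hom.comp_preimage, ← Scheme.Hom.comp_preimage, hj, hι]
  show (A'.presheaf.map (homOfLE hle).op ≫
    β.appLE (π' ⁻¹ᵁ (j' ⁻¹ᵁ (u₁ ⁻¹ᵁ W))) (π ⁻¹ᵁ (j ⁻¹ᵁ (u₁ ⁻¹ᵁ W))) (preimage_push (q := π ≫ j) (q' := π' ≫ j') hq (u₁ ⁻¹ᵁ W))) z = _
  rw [Scheme.Hom.map_appLE]
  have h2 := congrArg (Groth.PicAux.res (pushO π) hle3) (comm_aux w hι a a' hC h W y)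
  rw [Groth.PicAux.res_res] at h2
  refine Eq.trans ?_ h2
  show _ = (β.appLE _ _ (preimage_le_bc w _) ≫ A.presheaf.map (homOfLE (π.preimage_mono hle3)).op) z
  rw [Scheme.Hom.appLE_map]

end Generic

variable (φ : FSch.completionMod I M ≅ T.sys)

/-- The level isomorphism. -/
def Tower.phi (n : ℕ) : (Scheme.Modules.pullback (FSch.completionToX X I n)).obj M ≅ pushO (T.π n) :=
  ⟨φ.hom.app n, φ.inv.app n, congrArg (fun t : FSch.ModSys.Hom _ _ => t.app n) φ.hom_inv_id,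
    congrArg (fun t : FSch.ModSys.Hom _ _ => t.app n) φ.inv_hom_id⟩

/-- The reduction seen from `U`. -/
def Tower.red (n : ℕ) : (Scheme.Modules.pullback v).obj M ⟶ pushO (T.q v hU n) :=
  redHom (T.π n) (levIncl_ι v hU n) (T.phi φ n).hom

theorem Tower.sys_e (n : ℕ) : (T.sys.e n).hom = bcMap (T.pb n).w := rfl

omit T in
theorem isTrans_completion (M : X.Modules) (n : ℕ) :
    IsTrans (ι := (FSch.completionAlong X I).ι n)
      (i := FSch.completionToX X I n) (i' := FSch.completionToX X I (n + 1))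
      (Scheme.IdealSheafData.inclusion_subschemeι (FSch.pow_succ_le X I n))
      ((FSch.completionMod I M).e n).hom :=
  isTrans_comp _ M

theorem Tower.red_βPush (n : ℕ) :
    T.red v hU φ (n + 1) ≫ pushBeta (T.β_q v hU n) = T.red v hU φ n :=
  redHom_pushBeta (A := T.B n) (A' := T.B (n + 1)) (Z := (FSch.completionAlong X I).X n)
    (Z' := (FSch.completionAlong X I).X (n + 1)) (U₁ := U) (π := T.π n) (π' := T.π (n + 1))
    (β := T.β n) (ι := (FSch.completionAlong X I).ι n)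
    (j := levIncl v hU n) (j' := levIncl v hU (n + 1)) (u₁ := v)
    (i := FSch.completionToX X I n) (i' := FSch.completionToX X I (n + 1))
    (T.pb n).w (T.β_q v hU n) (Scheme.IdealSheafData.inclusion_subschemeι (FSch.pow_succ_le X I n))
    (levIncl_ι v hU n) (levIncl_ι v hU (n + 1)) (ι_levIncl v hU n) (T.phi φ n).hom (T.phi φ (n + 1)).hom
    (isTrans_completion M n) (φ.hom.comm n)

variable {E : U.Modules} (c : E ≅ (Scheme.Modules.pullback v).obj M)

/-- The reductions of `E`. -/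
def Tower.g (n : ℕ) : E ⟶ pushO (T.q v hU n) := c.hom ≫ T.red v hU φ n

theorem Tower.formal (hE : FlatMod.IsFinLocFree E)
    (H : ∀ D : U.Modules, FlatMod.IsFinLocFree D → Lef.HomToFormalBijective (I.comap v) D) :
    Formal (I.comap v) E (T.q v hU) (T.g v hU φ c) := by
  have := KTheory.LocFree.isQCoh hE
  let j := levIncl v hU
  let θ : ∀ n, (Scheme.Modules.pullback (j n)).obj E ≅ pushO (T.π n) := fun n =>
    (Scheme.Modules.pullback (j n)).mapIso c ≪≫
      ((Scheme.Modules.pullbackComp (j n) v).app M ≪≫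
        (Scheme.Modules.pullbackCongr (levIncl_ι v hU n)).app M) ≪≫ T.phi φ n
  have hθ : ∀ n (V : U.Opens) (x : Γ(E, V)),
      toB (T.g v hU φ c n) V x = ((θ n).hom.app (j n ⁻¹ᵁ V) (pullSec (j n) E x) : Γ(pushO (T.π n), j n ⁻¹ᵁ V)) :=
    fun n V x => by
    refine (redHom_app (levIncl_ι v hU n) (T.phi φ n).hom V (c.hom.app V x)).trans ?_
    show _ = ((((Scheme.Modules.pullbackComp (j n) v).app M ≪≫
        (Scheme.Modules.pullbackCongr (levIncl_ι v hU n)).app M) ≪≫ T.phi φ n).hom).app _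
      (((Scheme.Modules.pullback (j n)).map c.hom).app (j n ⁻¹ᵁ V) (pullSec (j n) E x))
    rw [pullSec_map]
    rfl
  have hbij : ∀ n (V : (((FSch.completionAlong X I).X n)).Opens), Function.Bijective ((θ n).hom.app V) := fun n V =>
    ConcreteCategory.bijective_of_isIso ((θ n).hom.app V)
  refine ⟨H, hE, fun n V y => ?_, fun n V x => ?_, fun n V => ?_⟩
  · obtain ⟨w, hw⟩ := (hbij n (j n ⁻¹ᵁ V.1)).2 y
    obtain ⟨x, hx⟩ := SpecFerrand.pullSec_surjective (j n) E V.2 w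
    exact ⟨x, (hθ n V.1 x).trans ((congrArg _ hx).trans hw)⟩
  · rw [hθ]
    refine Iff.trans ⟨fun h => (hbij n (j n ⁻¹ᵁ V.1)).1 (h.trans (map_zero _).symm), fun h => by rw [h]; exact map_zero _⟩ ?_
    rw [pullSec_eq_zero_iff (j n) E V.2]
    have hker : RingHom.ker ((j n).app V.1).hom = (I.comap v).ideal V ^ (n + 1) := by
      rw [← Scheme.Hom.ker_apply, ker_levIncl, Scheme.IdealSheafData.ideal_pow, Pi.pow_apply]
    rw [hker]
  · refine ⟨((T.β n).appLE _ _ (preimage_push (T.β_q v hU n) V.1)).hom, fun x => ?_⟩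
    exact congr(($(T.red_βPush v hU φ n)).app V.1 (c.hom.app V.1 x))

end

end Groth.LefAlg
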