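import Groth.Agent.LefAlg.Compare
import Groth.Agent.LefAlg.System
import Groth.Agent.LefAlg.Etale

/-!
# Extension of finite etale covers of `V(I)` from algebraizations of their formal lifts
-/

universe u

set_option autoImplicit false
set_option backward.isDefEq.respectTransparency false

open CategoryTheory CategoryTheory.Limits AlgebraicGeometry TopologicalSpace

namespace Groth.LefAlg

variable {X : Scheme.{u}} {I : X.IdealSheafData} {R : FEt.Cat I.subscheme}

/-- A cover of `V(I)` whose system of formal lifts is algebraized on `U` extends to `U`. -/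
theorem Tower.exists_extension (T : Tower I R) {U : Scheme.{u}} (v : U ⟶ X) [IsOpenImmersion v]
    (hU : (I.support : Set X) ⊆ Set.range v) {M : X.Modules}
    (φ : FSch.completionMod I M ≅ T.sys) {E : U.Modules}
    (c : E ≅ (Scheme.Modules.pullback v).obj M) (hE : FlatMod.IsFinLocFree E)
    (H : ∀ D : U.Modules, FlatMod.IsFinLocFree D → Lef.HomToFormalBijective (I.comap v) D) :
    ∃ R' : FEt.Cat U, ∀ i : I.subscheme ⟶ U, i ≫ v = I.subschemeι →
      Nonempty ((FEt.restrict i).obj R' ≅ R) := by
  have hF := T.formal v hU φ c hE H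
  have : IsAffineHom (T.q v hU 0) := inferInstance
  let p := hF.proj
  let i₀ : I.subscheme ⟶ U := zeroIncl I ≫ levIncl v hU 0
  have hi₀ : i₀ ≫ v = I.subschemeι := by
    rw [Category.assoc, levIncl_ι]; exact zeroIncl_ι I
  have : IsClosedImmersion i₀ := by
    have : IsClosedImmersion (i₀ ≫ v) := by rw [hi₀]; infer_instance
    exact IsClosedImmersion.of_comp _ v
  have hr : Set.range i₀ = ((I.comap v).support : Set U) := by
    rw [Scheme.IdealSheafData.support_comap]
    ext x
    constructor
    · rintro ⟨z, rfl⟩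
      show v (i₀ z) ∈ (I.support : Set X)
      rw [← Scheme.Hom.comp_apply, hi₀, ← Scheme.IdealSheafData.range_subschemeι]
      exact ⟨z, rfl⟩
    · intro hx
      have hx' : v x ∈ Set.range I.subschemeι := by rw [Scheme.IdealSheafData.range_subschemeι]; exact hx
      obtain ⟨z, hz⟩ := hx'
      refine ⟨z, v.injective ?_⟩
      rw [← Scheme.Hom.comp_apply, hi₀, hz]
  have hb : IsPullback (hF.bmap 0) (T.π 0) p (levIncl v hU 0) := by
    refine AlgebraicGeometry.isPullback_of_isClosedImmersion _ _ _ _ (hF.bmap_proj 0) ?_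
    rw [ker_levIncl, hF.ker_bmap, Divisors.comap_pow]
  have hpb : IsPullback (T.β₀ ≫ hF.bmap 0) R.hom p i₀ := T.pb₀.paste_horiz hb
  have : Etale R.hom := R.prop.2
  have h0 : Etale (pullback.snd p i₀) := by
    rw [← hpb.isoPullback_inv_snd]
    infer_instance
  have hp : Etale p := etale_of_formal (I.comap v) H p i₀ hr h0
  refine ⟨MorphismProperty.Over.mk ⊤ p ⟨inferInstance, hp⟩, fun i hi => ?_⟩
  obtain rfl : i = i₀ := by rw [← cancel_mono v, hi, hi₀]
  exact ⟨MorphismProperty.Over.isoMk hpb.isoPullback.symm hpb.isoPullback_inv_snd⟩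

end Groth.LefAlg
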