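import Groth.Agent.LefSections.Covers
import Groth.Agent.LocFree.Hom
import Groth.Agent.AdicLinTop.QcohRes

/-!
# Formal multiplications on a finite locally free module come from multiplications
-/

universe u

set_option autoImplicit false
set_option backward.isDefEq.respectTransparency false

open CategoryTheory AlgebraicGeometry Opposite TopologicalSpace
open Groth.RefRank (secToLin secToLin_res secToLin_add secToLin_smul secToLin_surjective secToLin_injective secLinEquiv)
open Groth.CohTwo.LocFreeDual (dual)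
open Groth.LefSections (InPow)

namespace Groth.LefAlg

local notation "ρ" => Groth.QCohMod.res

theorem mem_smul_top_of_apply {R M N : Type*} [CommRing R] [AddCommGroup M] [Module R M] [AddCommGroup N]
    [Module R N] [Module.Finite R M] [Module.Projective R M] (a : Ideal R) {f : M →ₗ[R] N}
    (h : ∀ x, f x ∈ a • (⊤ : Submodule R N)) : f ∈ a • (⊤ : Submodule R (M →ₗ[R] N)) := by
  classical
  obtain ⟨k, p, hp⟩ := Module.Finite.exists_fin' R M
  obtain ⟨s, hs⟩ := Module.projective_lifting_property p LinearMap.id hp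
  let L : Fin k → (N →ₗ[R] (M →ₗ[R] N)) := fun i => LinearMap.smulRightₗ ((LinearMap.proj i).comp s)
  have e : f = ∑ i, L i (f (p (Pi.single i 1))) := by
    refine LinearMap.ext fun x => ?_
    rw [LinearMap.sum_apply]
    simp only [L, LinearMap.smulRightₗ_apply, LinearMap.smulRight_apply, LinearMap.coe_comp,
      Function.comp_apply, LinearMap.proj_apply, ← map_smul, ← map_sum]
    conv_lhs => rw [show x = p (s x) from (LinearMap.congr_fun hs x).symm, pi_eq_sum_univ' (s x)]
  rw [e]
  refine Submodule.sum_mem _ fun i _ => ?_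
  have : L i (f (p (Pi.single i 1))) ∈ (a • (⊤ : Submodule R N)).map (L i) := Submodule.mem_map_of_mem (h _)
  rw [Submodule.map_smul''] at this
  exact Submodule.smul_mono le_rfl le_top this

theorem apply_mem_smul_top {R M N : Type*} [CommRing R] [AddCommGroup M] [Module R M] [AddCommGroup N]
    [Module R N] (a : Ideal R) (L : M →ₗ[R] N) {m : M} (hm : m ∈ a • (⊤ : Submodule R M)) :
    L m ∈ a • (⊤ : Submodule R N) := by
  have : L m ∈ (a • (⊤ : Submodule R M)).map L := Submodule.mem_map_of_mem hm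
  rw [Submodule.map_smul''] at this
  exact Submodule.smul_mono le_rfl le_top this

variable {U : Scheme.{u}} {J : U.IdealSheafData} {F G K : U.Modules}

theorem inPow_homSh_iff (hF : FlatMod.IsFinLocFree F) {n : ℕ} {V : U.affineOpens}
    (s : Γ(RefHull.homSh F G, V.1)) :
    InPow J (RefHull.homSh F G) n V s ↔ ∀ x, InPow J G n V (secToLin s x) := by
  have := KTheory.LocFree.isQCoh hF
  obtain ⟨_, _⟩ := LocFree.finite_projective_sections hF V.2
  let e := secLinEquiv (F := F) (G := G) V.2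
  refine ⟨fun h x => apply_mem_smul_top _ ((LinearMap.applyₗ x).comp e.toLinearMap) h, fun h => ?_⟩
  have := apply_mem_smul_top _ e.symm.toLinearMap (mem_smul_top_of_apply (f := secToLin s) _ h)
  rwa [show e.symm.toLinearMap (secToLin s) = s from e.symm_apply_apply s] at this

theorem secToLin_symm [F.IsQuasicoherent] {W : U.Opens} (hW : IsAffineOpen W)
    (φ : Γ(F, W) →ₗ[Γ(U, W)] Γ(G, W)) : secToLin ((secLinEquiv hW).symm φ) = φ :=
  (secLinEquiv hW).apply_symm_apply φ

theorem span_res_top (hF : FlatMod.IsFinLocFree F) {V V' : U.affineOpens} (h : V'.1 ≤ V.1) :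
    Submodule.span Γ(U, V'.1) (Set.range fun x : Γ(F, V.1) => ρ F h x) = ⊤ := by
  have := KTheory.LocFree.isQCoh hF
  exact AdicLinTop.QcohRes.span_res F V.2 V'.2 h _ (by rw [Set.range_id', Submodule.span_univ])

/-- Families of linear maps on affine opens compatible with restriction. -/
def Compat (d : ∀ V : U.affineOpens, Γ(F, V.1) →ₗ[Γ(U, V.1)] Γ(G, V.1)) : Prop :=
  ∀ (V V' : U.affineOpens) (h : V'.1 ≤ V.1) (x : Γ(F, V.1)), d V' (ρ F h x) = ρ G h (d V x)

/-- Families of bilinear maps on affine opens compatible with restriction. -/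
def Compat₂ (d : ∀ V : U.affineOpens, Γ(F, V.1) →ₗ[Γ(U, V.1)] Γ(G, V.1) →ₗ[Γ(U, V.1)] Γ(K, V.1)) : Prop :=
  ∀ (V V' : U.affineOpens) (h : V'.1 ≤ V.1) (x : Γ(F, V.1)) (y : Γ(G, V.1)),
    d V' (ρ F h x) (ρ G h y) = ρ K h (d V x y)

theorem exists_glue_affine (M : U.Modules) (d : ∀ V : U.affineOpens, Γ(M, V.1))
    (h : ∀ (V V' : U.affineOpens) (hle : V'.1 ≤ V.1), ρ M hle (d V) = d V') :
    ∃ s : Γ(M, ⊤), ∀ V : U.affineOpens, ρ M le_top s = d V := by
  obtain ⟨s, hs⟩ := CohTwo.exists_glue M (fun V : U.affineOpens => V.1) (fun V => (le_top : V.1 ≤ ⊤))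
    (fun x _ => by
      obtain ⟨V, hV, -⟩ := LefSections.exists_affine_le (⊤ : U.Opens) (x := x) trivial
      exact ⟨V, hV⟩) d (fun V V' => LefSections.section_ext_affine M fun W hW => by
        erw [QCohMod.res_res, QCohMod.res_res]
        exact (h V W (hW.trans inf_le_left)).trans (h V' W (hW.trans inf_le_right)).symm)
  exact ⟨s, hs⟩

section Zero

variable (H : ∀ D : U.Modules, FlatMod.IsFinLocFree D → Lef.HomToFormalBijective J D)
include H

theorem eq_zero_of_inPow (hF : FlatMod.IsFinLocFree F) (d : ∀ V : U.affineOpens, Γ(F, V.1))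
    (hd : ∀ (V V' : U.affineOpens) (hle : V'.1 ≤ V.1), ρ F hle (d V) = d V')
    (h : ∀ (n : ℕ) (V : U.affineOpens), InPow J F n V (d V)) (V : U.affineOpens) : d V = 0 := by
  obtain ⟨s, hs⟩ := exists_glue_affine F d hd
  have e : s = 0 := LefSections.section_ext hF
    (H _ (LocFree.isFinLocFree_homSh hF (LocFree.isFinLocFree_unit U))) fun n W => by
      rw [map_zero, sub_zero, hs]; exact h n W
  rw [← hs, e, map_zero]

theorem lin_eq_zero (hF : FlatMod.IsFinLocFree F) (hG : FlatMod.IsFinLocFree G)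
    (d : ∀ V : U.affineOpens, Γ(F, V.1) →ₗ[Γ(U, V.1)] Γ(G, V.1)) (hd : Compat d)
    (h : ∀ (n : ℕ) (V : U.affineOpens) x, InPow J G n V (d V x)) (V : U.affineOpens) : d V = 0 := by
  have := KTheory.LocFree.isQCoh hF
  let t : ∀ V : U.affineOpens, Γ(RefHull.homSh F G, V.1) := fun V => (secLinEquiv V.2).symm (d V)
  have ht : ∀ V, secToLin (t V) = d V := fun V => (secLinEquiv V.2).apply_symm_apply (d V)
  have h0 := eq_zero_of_inPow H (LocFree.isFinLocFree_homSh hF hG) t (fun V V' hle => by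
    refine secToLin_injective V'.2 (LinearMap.ext_on_range (span_res_top hF hle) fun x => ?_)
    rw [secToLin_res, ht, ht, hd])
    (fun n V => (inPow_homSh_iff hF _).2 fun x => by rw [ht]; exact h n V x) V
  rw [← ht, h0]
  exact (secLinEquiv V.2).map_zero

omit H in
theorem multi_up_compat (hF : FlatMod.IsFinLocFree F) (hG : FlatMod.IsFinLocFree G)
    (d : ∀ V : U.affineOpens, Γ(F, V.1) →ₗ[Γ(U, V.1)] Γ(G, V.1) →ₗ[Γ(U, V.1)] Γ(K, V.1))
    (hd : Compat₂ d) :
    have := KTheory.LocFree.isQCoh hG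
    Compat fun V => (secLinEquiv (F := G) (G := K) V.2).symm.toLinearMap ∘ₗ d V := by
  have := KTheory.LocFree.isQCoh hG
  intro _ V V' hle x
  refine secToLin_injective V'.2 (LinearMap.ext_on_range (span_res_top hG hle) fun y => ?_)
  simp only [LinearMap.coe_comp, LinearEquiv.coe_coe, Function.comp_apply]
  rw [secToLin_res, secToLin_symm, secToLin_symm]
  exact hd V V' hle x y

theorem bil_eq_zero (hF : FlatMod.IsFinLocFree F) (hG : FlatMod.IsFinLocFree G) (hK : FlatMod.IsFinLocFree K)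
    (d : ∀ V : U.affineOpens, Γ(F, V.1) →ₗ[Γ(U, V.1)] Γ(G, V.1) →ₗ[Γ(U, V.1)] Γ(K, V.1))
    (hd : Compat₂ d) (h : ∀ (n : ℕ) (V : U.affineOpens) x y, InPow J K n V (d V x y))
    (V : U.affineOpens) : d V = 0 := by
  have := KTheory.LocFree.isQCoh hG
  have h0 := lin_eq_zero H hF (LocFree.isFinLocFree_homSh hG hK) _ (multi_up_compat hF hG d hd)
    (fun n V x => (inPow_homSh_iff hG _).2 fun y => by
      show InPow J K n V (secToLin ((secLinEquiv V.2).symm (d V x)) y)
      rw [secToLin_symm]; exact h n V x y) V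
  refine LinearMap.ext fun x => (secLinEquiv (F := G) (G := K) V.2).symm.injective ?_
  rw [LinearMap.zero_apply, map_zero]
  exact LinearMap.congr_fun h0 x

end Zero

/-- A bilinear section applied to two sections. -/
noncomputable def ap2 {W : U.Opens} (s : Γ(RefHull.homSh F (RefHull.homSh G K), W)) :
    Γ(F, W) →ₗ[Γ(U, W)] Γ(G, W) →ₗ[Γ(U, W)] Γ(K, W) :=
  ({ toFun := secToLin, map_add' := secToLin_add, map_smul' := secToLin_smul } :
    Γ(RefHull.homSh G K, W) →ₗ[Γ(U, W)] (Γ(G, W) →ₗ[Γ(U, W)] Γ(K, W))).comp (secToLin s)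

theorem ap2_sub {W : U.Opens} (s t : Γ(RefHull.homSh F (RefHull.homSh G K), W)) (x : Γ(F, W)) (y : Γ(G, W)) :
    ap2 (s - t) x y = ap2 s x y - ap2 t x y := by
  have h : secToLin s = secToLin (s - t) + secToLin t := by rw [← secToLin_add, sub_add_cancel]
  show secToLin (secToLin (s - t) x) y = secToLin (secToLin s x) y - secToLin (secToLin t x) y
  rw [h, LinearMap.add_apply, secToLin_add, LinearMap.add_apply, add_sub_cancel_right]

theorem ap2_res {W W' : U.Opens} (h : W' ≤ W) (s : Γ(RefHull.homSh F (RefHull.homSh G K), W))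
    (x : Γ(F, W)) (y : Γ(G, W)) : ap2 (ρ _ h s) (ρ F h x) (ρ G h y) = ρ K h (ap2 s x y) := by
  show secToLin (secToLin _ _) _ = ρ K h (secToLin (secToLin s x) y)
  rw [secToLin_res, secToLin_res]

theorem ap2_surjective [F.IsQuasicoherent] [G.IsQuasicoherent] (V : U.affineOpens)
    (b : Γ(F, V.1) →ₗ[Γ(U, V.1)] Γ(G, V.1) →ₗ[Γ(U, V.1)] Γ(K, V.1)) :
    ∃ s : Γ(RefHull.homSh F (RefHull.homSh G K), V.1), ap2 s = b := by
  obtain ⟨s, hs⟩ := secToLin_surjective (F := F) V.2
    ((secLinEquiv (F := G) (G := K) V.2).symm.toLinearMap ∘ₗ b)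
  refine ⟨s, LinearMap.ext fun x => ?_⟩
  show secToLin (secToLin s x) = b x
  rw [hs]
  exact (secLinEquiv V.2).apply_symm_apply _

theorem inPow_ap2_iff (hF : FlatMod.IsFinLocFree F) (hG : FlatMod.IsFinLocFree G) {n : ℕ} {V : U.affineOpens}
    (s : Γ(RefHull.homSh F (RefHull.homSh G K), V.1)) :
    InPow J _ n V s ↔ ∀ x y, InPow J K n V (ap2 s x y) :=
  (inPow_homSh_iff hF s).trans (forall_congr' fun _ => inPow_homSh_iff hG _)

end Groth.LefAlg
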