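import Groth.Agent.ProjFormula.Derived
import Groth.Agent.ProjFormula.TensorBasis
import Groth.Agent.PicAux.EffCartierLine
import Groth.Agent.QCohMod.Tensor
import Groth.Agent.CohTwo.HomTensorCorep
import Groth.Agent.CohTwo.LocFreeExt

/-!
# Iterated twists by an invertible module
-/

set_option autoImplicit false

universe u

open CategoryTheory CategoryTheory.Limits AlgebraicGeometry
open Groth.PicAux
open Groth.CohTwo.SheafHomIso (tF tF_map_tmulSec)

namespace Groth.LefAlg

variable {X : Scheme.{u}}

/-- `M ↦ L ⊗ (L ⊗ … ⊗ M)`. -/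
noncomputable def itT (L : X.Modules) : ℕ → (X.Modules ⥤ X.Modules)
  | 0 => 𝟭 _
  | d + 1 => itT L d ⋙ tF L

theorem itT_zero_obj (L M : X.Modules) : (itT L 0).obj M = M := rfl

theorem itT_succ_obj (L M : X.Modules) (d : ℕ) :
    (itT L (d + 1)).obj M = (tF L).obj ((itT L d).obj M) := rfl

theorem itT_succ_map (L : X.Modules) (d : ℕ) {M N : X.Modules} (φ : M ⟶ N) :
    (itT L (d + 1)).map φ = (tF L).map ((itT L d).map φ) := rfl

theorem isFinLocFree_of_isInvertible' {L : X.Modules} (hL : PicF.IsInvertible L) :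
    FlatMod.IsFinLocFree L :=
  LocFree.isFinLocFree_of_rank (LocFree.isInvertible_iff_ofRank_one.1 hL)

theorem exact_itT {L : X.Modules} (hL : PicF.IsInvertible L) (d : ℕ) :
    PreservesFiniteLimits (itT L d) ∧ PreservesFiniteColimits (itT L d) ∧
      (itT L d).Additive := by
  induction d with
  | zero =>
    exact ⟨inferInstanceAs (PreservesFiniteLimits (𝟭 X.Modules)),
      inferInstanceAs (PreservesFiniteColimits (𝟭 X.Modules)),
      inferInstanceAs (𝟭 X.Modules).Additive⟩
  | succ d ih =>
    obtain ⟨_, _, _⟩ := ih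
    obtain ⟨_, _⟩ := Groth.ProjFormula.preservesFinite_tF (isFinLocFree_of_isInvertible' hL)
    have := Groth.ProjFormula.additive_tF L
    exact ⟨comp_preservesFiniteLimits _ _, comp_preservesFiniteColimits _ _,
      inferInstanceAs (itT L d ⋙ tF L).Additive⟩

theorem itT_zero_one {L : X.Modules} (M : X.Modules) :
    (itT L 1).obj M = (tF L).obj M := rfl

/-- `L^(a+b)` as a composite. -/
theorem itT_add (L : X.Modules) (a b : ℕ) :
    Nonempty (itT L (a + b) ≅ itT L b ⋙ itT L a) := by
  induction a with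
  | zero => rw [Nat.zero_add]; exact ⟨(Functor.rightUnitor _).symm⟩
  | succ a ih =>
    rw [Nat.succ_add]
    exact ⟨Functor.isoWhiskerRight ih.some (tF L) ≪≫ Functor.associator _ _ _⟩

theorem isQCoh_itT {L : X.Modules} (hL : PicF.IsInvertible L) {M : X.Modules}
    [M.IsQuasicoherent] : ∀ d : ℕ, ((itT L d).obj M).IsQuasicoherent
  | 0 => inferInstanceAs M.IsQuasicoherent
  | d + 1 => by
    have := isQCoh_itT hL (M := M) d
    have : L.IsQuasicoherent := isQCoh_of_isInvertible hL
    exact Groth.QCohMod.isQCoh_tensorMod (M := L) (N := (itT L d).obj M)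

theorem isCoh_itT {L : X.Modules} (hL : PicF.IsInvertible L) {M : X.Modules} (hM : Coh.IsCoh M) :
    ∀ d : ℕ, Coh.IsCoh ((itT L d).obj M)
  | 0 => hM
  | d + 1 => Groth.CohTwo.HomTensor.isCoh_tensorMod (isFinLocFree_of_isInvertible' hL)
      (isCoh_itT hL hM d)

/-- `e ⊗ M`. -/
noncomputable def isoTensor {A B : X.Modules} (e : A ≅ B) (M : X.Modules) :
    CohB1.tensorMod A M ≅ CohB1.tensorMod B M where
  hom := KoszTw.tensorMap e.hom (𝟙 M)
  inv := KoszTw.tensorMap e.inv (𝟙 M)
  hom_inv_id := tensor_hom_ext fun W a m => by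
    simp only [Scheme.Modules.Hom.comp_app, ConcreteCategory.comp_apply, tensorMap_app_tmulSec]
    rw [← ConcreteCategory.comp_apply, ← Scheme.Modules.Hom.comp_app, e.hom_inv_id]
    rfl
  inv_hom_id := tensor_hom_ext fun W a m => by
    simp only [Scheme.Modules.Hom.comp_app, ConcreteCategory.comp_apply, tensorMap_app_tmulSec]
    rw [← ConcreteCategory.comp_apply, ← Scheme.Modules.Hom.comp_app, e.inv_hom_id]
    rfl

/-- Twisting by inverse invertible modules is the identity. -/
theorem exists_cancel {L K : X.Modules} (h : ClSub.IsInverseOf L K) :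
    Nonempty (tF L ⋙ tF K ≅ 𝟭 X.Modules) := by
  obtain ⟨ψ⟩ := isInverseOf_symm h
  refine ⟨NatIso.ofComponents (fun M => (exists_associator K L M).choose.symm ≪≫
    isoTensor ψ M ≪≫ (exists_leftUnitor M).choose) fun {M N} φ => ?_⟩
  refine (cancel_epi (exists_associator K L M).choose.hom).1 ?_
  refine tensor_hom_ext₃ fun W a b c => ?_
  have hA := (exists_associator K L M).choose_spec W a b c
  have hA' := (exists_associator K L N).choose_spec W a b (φ.app W c)
  have inv_app : ∀ {P Q : X.Modules} (e : P ≅ Q) (x : Γ(P, W)), e.inv.app W (e.hom.app W x) = x := by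
    intro P Q e x
    rw [← ConcreteCategory.comp_apply, ← Scheme.Modules.Hom.comp_app, e.hom_inv_id]
    rfl
  have tail : ∀ (P : X.Modules) (p : Γ(P, W)),
      ((exists_associator K L P).choose.symm ≪≫ isoTensor ψ P ≪≫
        (exists_leftUnitor P).choose).hom.app W (tmulSec a (tmulSec b p)) =
      toFun (ψ.hom.app W (tmulSec a b)) • p := fun P p => by
    rw [← (exists_associator K L P).choose_spec W a b p]
    simp only [Iso.trans_hom, Iso.symm_hom, Scheme.Modules.Hom.comp_app, ConcreteCategory.comp_apply,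
      inv_app]
    change (exists_leftUnitor P).choose.hom.app W ((KoszTw.tensorMap ψ.hom (𝟙 P)).app W _) = _
    rw [tensorMap_app_tmulSec, (exists_leftUnitor P).choose_spec]
    rfl
  refine Eq.trans (congrArg (fun x => Scheme.Modules.Hom.app
    (((exists_associator K L N).choose.symm ≪≫ isoTensor ψ N ≪≫ (exists_leftUnitor N).choose).hom) W
      (((tF K).map ((tF L).map φ)).app W x)) hA) ?_
  refine Eq.trans ?_ (congrArg (fun x => φ.app W (Scheme.Modules.Hom.app
    (((exists_associator K L M).choose.symm ≪≫ isoTensor ψ M ≪≫ (exists_leftUnitor M).choose).hom) W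
      x)) hA).symm
  refine Eq.trans (congrArg _ ((tF_map_tmulSec ((tF L).map φ) W a (tmulSec b c)).trans
    (congrArg (tmulSec a) (tF_map_tmulSec φ W b c)))) ?_
  refine (tail N (φ.app W c)).trans ?_
  exact (Scheme.Modules.Hom.app_smul φ _ _).symm.trans (congrArg (φ.app W) (tail M c)).symm

end Groth.LefAlg
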