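import Groth.Agent.LefAlg.Chart
import Groth.Agent.OmegaSheaf.ExactLocal
import Mathlib.CategoryTheory.Limits.Preserves.Shapes.Kernels

/-!
# Strict systems along an effective Cartier divisor and their fundamental exact sequences
-/

set_option autoImplicit false

universe u

open CategoryTheory CategoryTheory.Limits AlgebraicGeometry
open Groth.PicAux
open Groth.CohTwo.SheafHomIso (tF tF_map_tmulSec)

namespace Groth.LefAlg

variable {X : Scheme.{u}} {I : X.IdealSheafData} {L : X.Modules} {s : Coh.structureModule X ⟶ L}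
  {P : ℕ → X.Modules} {π : ∀ b, P (b + 1) ⟶ P b}

/-- `P b` is killed by `t^(b+1)`, `π` is surjective with kernel `t^(b+1) P (b+1)`, and the
`t`-torsion of `P (b+1)` is `t^(b+1) P (b+1)`. -/
structure Strict (I : X.IdealSheafData) (L : X.Modules) (s : Coh.structureModule X ⟶ L)
    (P : ℕ → X.Modules) (π : ∀ b, P (b + 1) ⟶ P b) : Prop where
  qcoh : ∀ b, (P b).IsQuasicoherent
  surj : ∀ b (V : X.affineOpens) t e, IsChart I L s V t e → Function.Surjective ((π b).app V.1)
  ann : ∀ b (V : X.affineOpens) t e, IsChart I L s V t e → ∀ p : Γ(P b, V.1), t ^ (b + 1) • p = 0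
  ker : ∀ b (V : X.affineOpens) t e, IsChart I L s V t e → ∀ p : Γ(P (b + 1), V.1),
    (π b).app V.1 p = 0 → ∃ q, p = t ^ (b + 1) • q
  tors : ∀ b (V : X.affineOpens) t e, IsChart I L s V t e → ∀ p : Γ(P (b + 1), V.1),
    t • p = 0 → ∃ q, p = t ^ (b + 1) • q

/-- The composite `P b ⟶ P 0`. -/
noncomputable def top (π : ∀ b, P (b + 1) ⟶ P b) : ∀ b, P b ⟶ P 0
  | 0 => 𝟙 _
  | b + 1 => π b ≫ top π b

theorem epi_π (hs : DivSec I L s) (h : Strict I L s P π) (b : ℕ) : Epi (π b) := by
  have := h.qcoh b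
  refine Groth.OmegaSheaf.epi_of_affine_cover _ fun x => ?_
  obtain ⟨V, t, e, hx, -, hc⟩ := hs x ⊤ trivial
  exact ⟨V.1, V.2, hx, h.surj b V t e hc⟩

theorem epi_top (hs : DivSec I L s) (h : Strict I L s P π) : ∀ b, Epi (top π b)
  | 0 => inferInstanceAs (Epi (𝟙 (P 0)))
  | b + 1 => by
    have := epi_π hs h b
    have := epi_top hs h b
    exact inferInstanceAs (Epi (π b ≫ top π b))

theorem top_smul_eq (h : Strict I L s P π) {V : X.affineOpens} {t : Γ(X, V.1)} {e : Γ(L, V.1)}
    (hc : IsChart I L s V t e) : ∀ (b : ℕ) (p : Γ(P b, V.1)),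
    (top π b).app V.1 p = 0 → ∃ q, p = t • q := by
  intro b
  induction b with
  | zero => exact fun p hp => ⟨0, (show p = 0 from hp).trans (smul_zero t).symm⟩
  | succ b ih =>
    intro p hp
    obtain ⟨r, hr⟩ := ih _ hp
    obtain ⟨r', rfl⟩ := h.surj b V t e hc r
    obtain ⟨q, hq⟩ := h.ker b V t e hc (p - t • r') (by
      rw [map_sub, Scheme.Modules.Hom.app_smul]
      exact sub_eq_zero.2 hr)
    exact ⟨r' + t ^ b • q, by rw [smul_add, ← mul_smul, ← pow_succ', ← hq, add_sub_cancel]⟩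

theorem top_smul (h : Strict I L s P π) {V : X.affineOpens} {t : Γ(X, V.1)} {e : Γ(L, V.1)}
    (hc : IsChart I L s V t e) (b : ℕ) (q : Γ(P b, V.1)) : (top π b).app V.1 (t • q) = 0 := by
  rw [Scheme.Modules.Hom.app_smul]
  simpa using h.ann 0 V t e hc ((top π b).app V.1 q)

/-- `m ↦ s ⊗ m`. -/
noncomputable def phi (s : Coh.structureModule X ⟶ L) (M : X.Modules) : M ⟶ (tF L).obj M :=
  (exists_leftUnitor M).choose.inv ≫ KoszTw.tensorMap s (𝟙 M)

theorem phi_app (s : Coh.structureModule X ⟶ L) {M : X.Modules} {W : X.Opens} (m : Γ(M, W)) :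
    (phi s M).app W m = tmulSec (s.app W (oneSec X W)) m := by
  have h := (exists_leftUnitor M).choose_spec W (oneSec X W) m
  rw [toFun_oneSec, one_smul] at h
  conv_lhs => rw [← h]
  change (KoszTw.tensorMap s (𝟙 M)).app W ((exists_leftUnitor M).choose.inv.app W
    ((exists_leftUnitor M).choose.hom.app W (tmulSec (oneSec X W) m))) = _
  rw [← ConcreteCategory.comp_apply ((exists_leftUnitor M).choose.hom.app W),
    ← Scheme.Modules.Hom.comp_app, Iso.hom_inv_id]
  exact tensorMap_app_tmulSec s (𝟙 M) W _ m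

theorem phi_natural (s : Coh.structureModule X ⟶ L) {M N : X.Modules} (φ : M ⟶ N) :
    phi s M ≫ (tF L).map φ = φ ≫ phi s N := by
  refine Scheme.Modules.hom_ext _ _ fun W => ?_
  ext m
  change ((tF L).map φ).app W ((phi s M).app W m) = (phi s N).app W (φ.app W m)
  rw [phi_app, phi_app, tF_map_tmulSec]

theorem phi_chart {V : X.affineOpens} {t : Γ(X, V.1)} {e : Γ(L, V.1)}
    (hc : IsChart I L s V t e) {M : X.Modules} (m : Γ(M, V.1)) :
    (phi s M).app V.1 m = tmulSec e (t • m) := by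
  rw [phi_app, hc.sec, tmulSec_smul_left, tmulSec_smul_right]

theorem kernel_comp_phi (hs : DivSec I L s) (h : Strict I L s P π) (b : ℕ) :
    kernel.ι (π b) ≫ phi s (P (b + 1)) = 0 := by
  refine Scheme.Modules.hom_ext _ _ fun W => ?_
  ext k
  choose V t e hxV hVW hc using fun x : (W : Type u) => hs x.1 W x.2
  refine res_ext (fun x => (V x).1) hVW
    (fun x hx => TopologicalSpace.Opens.mem_iSup.2 ⟨⟨x, hx⟩, hxV ⟨x, hx⟩⟩) fun x => ?_
  change res _ (hVW x) ((phi s _).app W ((kernel.ι (π b)).app W k)) = res _ (hVW x) 0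
  rw [← app_res, ← app_res, phi_chart (hc x), res_zero]
  obtain ⟨q, hq⟩ := h.ker b _ _ _ (hc x) ((kernel.ι (π b)).app _ (res _ (hVW x) k)) (by
    rw [← ConcreteCategory.comp_apply, ← Scheme.Modules.Hom.comp_app, kernel.condition]
    rfl)
  rw [hq, ← mul_smul, ← pow_succ', h.ann (b + 1) _ _ _ (hc x), tmulSec_zero_right]
  rfl

/-- `σ (π p) = s ⊗ p`. -/
noncomputable def sigma (hs : DivSec I L s) (h : Strict I L s P π) (b : ℕ) :
    P b ⟶ (tF L).obj (P (b + 1)) :=
  haveI := epi_π hs h b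
  Abelian.epiDesc (π b) (phi s (P (b + 1))) (kernel_comp_phi hs h b)

theorem π_sigma (hs : DivSec I L s) (h : Strict I L s P π) (b : ℕ) :
    π b ≫ sigma hs h b = phi s (P (b + 1)) :=
  haveI := epi_π hs h b
  Abelian.comp_epiDesc _ _ _

theorem sigma_natural (hs : DivSec I L s) (h : Strict I L s P π) (b : ℕ) :
    sigma hs h (b + 1) ≫ (tF L).map (π (b + 1)) = π b ≫ sigma hs h b := by
  have := epi_π hs h (b + 1)
  rw [← cancel_epi (π (b + 1)), ← Category.assoc, π_sigma, phi_natural, π_sigma]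

/-- The fundamental sequence `0 → P b → L ⊗ P (b+1) → L ⊗ P 0 → 0`. -/
noncomputable def seq (hs : DivSec I L s) (h : Strict I L s P π) (b : ℕ) : ShortComplex X.Modules :=
  haveI := epi_π hs h b
  ShortComplex.mk (sigma hs h b) ((tF L).map (top π (b + 1))) (by
    rw [← cancel_epi (π b), ← Category.assoc, π_sigma, phi_natural, comp_zero]
    refine Scheme.Modules.hom_ext _ _ fun W => ?_
    ext m
    choose V t e hxV hVW hc using fun x : (W : Type u) => hs x.1 W x.2
    refine res_ext (fun x => (V x).1) hVW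
      (fun x hx => TopologicalSpace.Opens.mem_iSup.2 ⟨⟨x, hx⟩, hxV ⟨x, hx⟩⟩) fun x => ?_
    change res _ (hVW x) ((phi s _).app W ((top π (b + 1)).app W m)) = res _ (hVW x) 0
    rw [← app_res, ← app_res, phi_chart (hc x), res_zero, ← Scheme.Modules.Hom.app_smul,
      top_smul h (hc x), tmulSec_zero_right]
    rfl)

theorem seq_shortExact (hL : PicF.IsInvertible L) (hs : DivSec I L s) (h : Strict I L s P π)
    (b : ℕ) : (seq hs h b).ShortExact := by
  obtain ⟨_, _⟩ := Groth.ProjFormula.preservesFinite_tF (isFinLocFree_of_isInvertible' hL)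
  have hL' : L.IsQuasicoherent := isQCoh_of_isInvertible hL
  have hq : ∀ c, ((tF L).obj (P c)).IsQuasicoherent := fun c =>
    haveI := h.qcoh c
    Groth.QCohMod.isQCoh_tensorMod (M := L) (N := P c)
  have := h.qcoh b
  have := epi_top hs h (b + 1)
  have hg : Epi (seq hs h b).g := inferInstanceAs (Epi ((tF L).map (top π (b + 1))))
  have : (seq hs h b).X₂.IsQuasicoherent := hq (b + 1)
  have : (seq hs h b).X₃.IsQuasicoherent := hq 0
  have key : ∀ {V : X.affineOpens} {t : Γ(X, V.1)} {e : Γ(L, V.1)} (hc : IsChart I L s V t e)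
      (p : Γ(P (b + 1), V.1)), (sigma hs h b).app V.1 ((π b).app V.1 p) = tmulSec e (t • p) := by
    intro V t e hc p
    rw [← ConcreteCategory.comp_apply, ← Scheme.Modules.Hom.comp_app, π_sigma, phi_chart hc]
  have htw : ∀ {V : X.affineOpens} {t : Γ(X, V.1)} {e : Γ(L, V.1)} (hc : IsChart I L s V t e)
      (M : X.Modules), Function.Bijective fun p : Γ(M, V.1) => tmulSec e p := by
    intro V t e hc M
    simpa using twist_bijective hc.gen M (le_refl V.1)
  refine { exact := ?_, mono_f := ?_, epi_g := hg }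
  · refine Groth.OmegaSheaf.exact_of_affine_cover _ fun x => ?_
    obtain ⟨V, t, e, hx, -, hc⟩ := hs x ⊤ trivial
    refine ⟨V.1, V.2, hx, fun m hm => ?_⟩
    obtain ⟨p, rfl⟩ := (htw hc (P (b + 1))).2 m
    have hm' : tmulSec e ((top π (b + 1)).app V.1 p) = 0 :=
      ((tF_map_tmulSec (top π (b + 1)) V.1 e p).symm.trans hm)
    obtain ⟨q, rfl⟩ := top_smul_eq h hc (b + 1) p
      ((htw hc (P 0)).1 (hm'.trans (tmulSec_zero_right e).symm))
    exact ⟨(π b).app V.1 q, key hc q⟩
  · refine Groth.OmegaSheaf.mono_of_affine_cover (sigma hs h b) fun x => ?_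
    obtain ⟨V, t, e, hx, -, hc⟩ := hs x ⊤ trivial
    refine ⟨V.1, V.2, hx, (injective_iff_map_eq_zero _).2 fun q hq => ?_⟩
    obtain ⟨p, rfl⟩ := h.surj b V t e hc q
    have hp : t • p = 0 :=
      (htw hc _).1 (((key hc p).symm.trans hq).trans (tmulSec_zero_right e).symm)
    obtain ⟨r, rfl⟩ := h.tors b V t e hc p hp
    rw [Scheme.Modules.Hom.app_smul, h.ann b V t e hc]

/-- The twisted system. -/
theorem Strict.tensor (hL : PicF.IsInvertible L) (h : Strict I L s P π) :
    Strict I L s (fun b => (tF L).obj (P b)) (fun b => (tF L).map (π b)) := by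
  have hL' : L.IsQuasicoherent := isQCoh_of_isInvertible hL
  have htw : ∀ {V : X.affineOpens} {t : Γ(X, V.1)} {e : Γ(L, V.1)} (hc : IsChart I L s V t e)
      (M : X.Modules), Function.Bijective fun p : Γ(M, V.1) => tmulSec e p := by
    intro V t e hc M
    simpa using twist_bijective hc.gen M (le_refl V.1)
  refine ⟨fun b => ?_, fun b V t e hc q => ?_, fun b V t e hc q => ?_,
    fun b V t e hc q hq => ?_, fun b V t e hc q hq => ?_⟩
  · have := h.qcoh b
    exact Groth.QCohMod.isQCoh_tensorMod (M := L) (N := P b)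
  · obtain ⟨p, rfl⟩ := (htw hc (P b)).2 q
    obtain ⟨p', rfl⟩ := h.surj b V t e hc p
    exact ⟨tmulSec e p', tF_map_tmulSec _ _ _ _⟩
  · obtain ⟨p, rfl⟩ := (htw hc (P b)).2 q
    change t ^ (b + 1) • tmulSec e p = 0
    rw [← tmulSec_smul_right, h.ann b V t e hc, tmulSec_zero_right]
  · obtain ⟨p, rfl⟩ := (htw hc (P (b + 1))).2 q
    obtain ⟨r, rfl⟩ := h.ker b V t e hc p
      ((htw hc (P b)).1 (((tF_map_tmulSec _ _ _ _).symm.trans hq).trans (tmulSec_zero_right e).symm))
    exact ⟨tmulSec e r, tmulSec_smul_right _ _ _⟩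
  · obtain ⟨p, rfl⟩ := (htw hc (P (b + 1))).2 q
    obtain ⟨r, rfl⟩ := h.tors b V t e hc p
      ((htw hc (P (b + 1))).1 (((tmulSec_smul_right t e p).trans hq).trans (tmulSec_zero_right e).symm))
    exact ⟨tmulSec e r, tmulSec_smul_right _ _ _⟩

theorem Strict.itT (hL : PicF.IsInvertible L) (h : Strict I L s P π) :
    ∀ d : ℕ, Strict I L s (fun b => (itT L d).obj (P b)) (fun b => (itT L d).map (π b))
  | 0 => h
  | d + 1 => (Strict.itT hL h d).tensor hL

/-- `P 0` is the kernel of `L ⊗ P 1 ⟶ L ⊗ P 0`. -/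
theorem nonempty_kernel_zero (hL : PicF.IsInvertible L) (hs : DivSec I L s)
    (h : Strict I L s P π) : Nonempty (P 0 ≅ kernel ((tF L).map (π 0))) := by
  have hE := seq_shortExact hL hs h 0
  have := hE.mono_f
  exact ⟨hE.fIsKernel.conePointUniqueUpToIso (kernelIsKernel (seq hs h 0).g) ≪≫
    kernelIsoOfEq (by
      change (tF L).map (π 0 ≫ 𝟙 (P 0)) = _
      rw [Category.comp_id])⟩

/-- The kernel of `P (b+1) ⟶ P b` is the kernel of `L ⊗ P (b+2) ⟶ L ⊗ P (b+1)`. -/
theorem nonempty_kernel_succ (hL : PicF.IsInvertible L) (hs : DivSec I L s)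
    (h : Strict I L s P π) (b : ℕ) :
    Nonempty (kernel (π b) ≅ kernel ((tF L).map (π (b + 1)))) := by
  have hE := seq_shortExact hL hs h (b + 1)
  have hE' := seq_shortExact hL hs h b
  have : Mono (sigma hs h (b + 1)) := hE.mono_f
  have : Mono (sigma hs h b) := hE'.mono_f
  let k := kernel.ι ((tF L).map (π (b + 1)))
  have hk : k ≫ (seq hs h (b + 1)).g = 0 := by
    change k ≫ (tF L).map (π (b + 1) ≫ top π (b + 1)) = 0
    rw [Functor.map_comp, ← Category.assoc, kernel.condition, zero_comp]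
  let l : kernel ((tF L).map (π (b + 1))) ⟶ P (b + 1) := hE.fIsKernel.lift (KernelFork.ofι k hk)
  have hl : l ≫ sigma hs h (b + 1) = k := hE.fIsKernel.fac (KernelFork.ofι k hk) .zero
  refine ⟨{
    hom := kernel.lift _ (kernel.ι (π b) ≫ sigma hs h (b + 1)) (by
      rw [Category.assoc, sigma_natural, kernel.condition_assoc, zero_comp])
    inv := kernel.lift _ l (by
      rw [← cancel_mono (sigma hs h b), zero_comp, Category.assoc, ← sigma_natural,
        ← Category.assoc, hl, kernel.condition])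
    hom_inv_id := ?_
    inv_hom_id := ?_ }⟩
  · rw [← cancel_mono (kernel.ι _), Category.assoc, kernel.lift_ι, Category.id_comp,
      ← cancel_mono (sigma hs h (b + 1)), Category.assoc, hl, kernel.lift_ι]
  · rw [← cancel_mono (kernel.ι _), Category.assoc, kernel.lift_ι, ← Category.assoc, kernel.lift_ι,
      hl, Category.id_comp]

end Groth.LefAlg
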