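import Groth.Agent.LefAlg.FromSys

/-!
# Morphisms to systems on a completion and their transposes
-/

set_option autoImplicit false

universe u

open CategoryTheory CategoryTheory.Limits AlgebraicGeometry

namespace Groth.LefAlg

variable {X : Scheme.{u}} {I : X.IdealSheafData}

/-- The transpose `(toX b)^* E ⟶ M b` of `E ⟶ (toX b)_* M b`. -/
noncomputable def down (𝔐 : FSch.ModSys (FSch.completionAlong X I)) {E : X.Modules} {b : ℕ}
    (g : E ⟶ pushLvl 𝔐 b) :
    (Scheme.Modules.pullback (FSch.completionToX X I b)).obj E ⟶ 𝔐.F b :=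
  ((Scheme.Modules.pullbackPushforwardAdjunction (FSch.completionToX X I b)).homEquiv _ _).symm g

/-- The transpose `E ⟶ (toX b)_* M b`. -/
noncomputable def up (𝔐 : FSch.ModSys (FSch.completionAlong X I)) {E : X.Modules} {b : ℕ}
    (a : (Scheme.Modules.pullback (FSch.completionToX X I b)).obj E ⟶ 𝔐.F b) :
    E ⟶ pushLvl 𝔐 b :=
  (Scheme.Modules.pullbackPushforwardAdjunction (FSch.completionToX X I b)).homEquiv _ _ a

theorem up_down (𝔐 : FSch.ModSys (FSch.completionAlong X I)) {E : X.Modules} {b : ℕ}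
    (g : E ⟶ pushLvl 𝔐 b) : up 𝔐 (down 𝔐 g) = g :=
  Equiv.apply_symm_apply _ _

theorem down_up (𝔐 : FSch.ModSys (FSch.completionAlong X I)) {E : X.Modules} {b : ℕ}
    (a : (Scheme.Modules.pullback (FSch.completionToX X I b)).obj E ⟶ 𝔐.F b) :
    down 𝔐 (up 𝔐 a) = a :=
  Equiv.symm_apply_apply _ _

theorem up_comp (𝔐 : FSch.ModSys (FSch.completionAlong X I)) {E E' : X.Modules} {b : ℕ} (φ : E' ⟶ E)
    (a : (Scheme.Modules.pullback (FSch.completionToX X I b)).obj E ⟶ 𝔐.F b) :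
    up 𝔐 ((Scheme.Modules.pullback (FSch.completionToX X I b)).map φ ≫ a) = φ ≫ up 𝔐 a :=
  Adjunction.homEquiv_naturality_left _ _ _

theorem down_comm (𝔐 : FSch.ModSys (FSch.completionAlong X I)) {E : X.Modules} (b : ℕ)
    {a' : (Scheme.Modules.pullback (FSch.completionToX X I (b + 1))).obj E ⟶ 𝔐.F (b + 1)}
    {a : (Scheme.Modules.pullback (FSch.completionToX X I b)).obj E ⟶ 𝔐.F b}
    (h : up 𝔐 a' ≫ pushTr 𝔐 b = up 𝔐 a) :
    (Scheme.Modules.pullback ((FSch.completionAlong X I).ι b)).map a' ≫ (𝔐.e b).hom =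
      ((FSch.complMod I E).e b).hom ≫ a := by
  rw [FSch.complMod_e, Iso.app_hom]
  exact Groth.AdicLinTop.AlgzBridge.complTrans_comm b a' a (𝔐.e b).hom h

theorem up_compat (𝔐 : FSch.ModSys (FSch.completionAlong X I)) {E : X.Modules} (b : ℕ)
    {a' : (Scheme.Modules.pullback (FSch.completionToX X I (b + 1))).obj E ⟶ 𝔐.F (b + 1)}
    {a : (Scheme.Modules.pullback (FSch.completionToX X I b)).obj E ⟶ 𝔐.F b}
    (h : (Scheme.Modules.pullback ((FSch.completionAlong X I).ι b)).map a' ≫ (𝔐.e b).hom =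
      ((FSch.complMod I E).e b).hom ≫ a) :
    up 𝔐 a' ≫ pushTr 𝔐 b = up 𝔐 a := by
  have h' := down_comm 𝔐 b (a' := a') (a := down 𝔐 (up 𝔐 a' ≫ pushTr 𝔐 b)) (up_down 𝔐 _).symm
  have h'' := (cancel_epi ((FSch.complMod I E).e b).hom).1 (h.symm.trans h')
  exact ((congrArg (up 𝔐) h'').trans (up_down 𝔐 _)).symm

/-- The unit `E ⟶ (toX b)_* (toX b)^* E`. -/
noncomputable def unitLvl (I : X.IdealSheafData) (E : X.Modules) (b : ℕ) :
    E ⟶ pushLvl (FSch.complMod I E) b :=
  up (FSch.complMod I E) (𝟙 _)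

theorem unitLvl_tr (I : X.IdealSheafData) (E : X.Modules) (b : ℕ) :
    unitLvl I E (b + 1) ≫ pushTr (FSch.complMod I E) b = unitLvl I E b := by
  refine up_compat (FSch.complMod I E) b ?_
  refine (congrArg (· ≫ ((FSch.complMod I E).e b).hom) ((Scheme.Modules.pullback
    ((FSch.completionAlong X I).ι b)).map_id ((FSch.complMod I E).F (b + 1)))).trans ?_
  exact (Category.id_comp _).trans (Category.comp_id _).symm

theorem unitLvl_facts (I : X.IdealSheafData) (E : X.Modules) [E.IsQuasicoherent] (b : ℕ)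
    (V : X.affineOpens) :
    Function.Surjective ((unitLvl I E b).app V.1) ∧
      ∀ x : Γ(E, V.1), (unitLvl I E b).app V.1 x = 0 ↔
        x ∈ (I.ideal V ^ (b + 1)) • (⊤ : Submodule Γ(X, V.1) Γ(E, V.1)) := by
  have hu : unitLvl I E b =
      (Scheme.Modules.pullbackPushforwardAdjunction (FSch.completionToX X I b)).unit.app E :=
    Adjunction.homEquiv_id _ _
  have hk : (FSch.completionToX X I b).ker.ideal V = I.ideal V ^ (b + 1) :=
    (congrArg (fun J : X.IdealSheafData => J.ideal V)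
      (Scheme.IdealSheafData.ker_subschemeι (I ^ (b + 1)))).trans
      (by rw [Scheme.IdealSheafData.ideal_pow, Pi.pow_apply])
  obtain ⟨h1, h2⟩ := Groth.QCohMod.unit_closedImmersion_app (FSch.completionToX X I b) E V.2
  rw [hu]
  refine ⟨h1, fun x => (h2 x).trans ?_⟩
  rw [← hk]

end Groth.LefAlg
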